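/-
Involutory isometries of alternating and quadratic forms in characteristic two: standard families.
-/
import Cfsg.Agent.Forms.OfBilin
import Cfsg.Agent.QuadStd.Orthonormal
import Mathlib.LinearAlgebra.Projection
import Mathlib.Algebra.CharP.Two

set_option autoImplicit false
set_option linter.unusedSectionVars false

namespace CfsgLib.Dye

open Module LinearMap

variable {F V : Type*} [Field F] [CharP F 2] [AddCommGroup V] [Module F V] [FiniteDimensional F V]

/-- `N = t - 1` for an involutory isometry `t`. -/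
structure IsDev (B : LinearMap.BilinForm F V) (N : V →ₗ[F] V) : Prop where
  sq : ∀ x, N (N x) = 0
  symm : ∀ x y, B x (N y) = B y (N x)

/-- `v ↦ f(v, tv)` vanishes. -/
def Alt (B : LinearMap.BilinForm F V) (N : V →ₗ[F] V) : Prop := ∀ v, B v (N v) = 0

/-- A family with prescribed pairing against its image under `N`, spanning the image of `N`. -/
structure IsPre {ι : Type*} [DecidableEq ι] (B : LinearMap.BilinForm F V) (N : V →ₗ[F] V)
    (σ : ι → ι) (e : ι → V) : Prop where
  gram : ∀ i j, B (e i) (N (e j)) = if σ i = j then 1 else 0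
  range_le : LinearMap.range N ≤ Submodule.span F (Set.range fun i => N (e i))

/-- An isotropic `IsPre` family. -/
structure IsStd {ι : Type*} [DecidableEq ι] (B : LinearMap.BilinForm F V) (N : V →ₗ[F] V)
    (σ : ι → ι) (e : ι → V) : Prop extends IsPre B N σ e where
  zero : ∀ i j, B (e i) (e j) = 0

variable {B : LinearMap.BilinForm F V} (hA : B.IsAlt) (hB : B.Nondegenerate) {N : V →ₗ[F] V}

omit [FiniteDimensional F V] in
include hA in
theorem alt_comm (x y : V) : B x y = B y x := by
  rw [← LinearMap.IsAlt.neg hA y x, CharTwo.neg_eq]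

omit [FiniteDimensional F V] in
theorem IsDev.image_isotropic (hN : IsDev B N) (x y : V) : B (N x) (N y) = 0 := by
  rw [hN.symm, hN.sq, map_zero]

include hB in
theorem two_mul_le (hN : IsDev B N) : 2 * finrank F (LinearMap.range N) ≤ finrank F V := by
  have h1 := LinearMap.finrank_range_add_finrank_ker N
  have h2 : LinearMap.range N ≤ LinearMap.ker N := by
    rintro _ ⟨x, rfl⟩
    exact hN.sq x
  have h3 := Submodule.finrank_mono h2
  omega

section family

variable {ι : Type*} [Fintype ι] [DecidableEq ι] {σ : ι → ι} {e : ι → V}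

omit [FiniteDimensional F V] in
theorem IsPre.linearIndependent (he : IsPre B N σ e) (hσ : Function.Involutive σ) :
    LinearIndependent F (fun i => N (e i)) := by
  rw [Fintype.linearIndependent_iff]
  intro c hc i
  have := congrArg (fun w => B (e (σ i)) w) hc
  simpa [he.gram, hσ i] using this

theorem IsPre.finrank_range (he : IsPre B N σ e) (hσ : Function.Involutive σ) :
    finrank F (LinearMap.range N) = Fintype.card ι := by
  have h : LinearMap.range N = Submodule.span F (Set.range fun i => N (e i)) :=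
    le_antisymm he.range_le (Submodule.span_le.2 (by rintro _ ⟨i, rfl⟩; exact ⟨e i, rfl⟩))
  rw [h, finrank_span_eq_card (he.linearIndependent hσ)]

omit [FiniteDimensional F V] in
theorem IsPre.apply_eq (he : IsPre B N σ e) (hN : IsDev B N) (hσ : Function.Involutive σ) (x : V) :
    N x = ∑ i, B x (N (e (σ i))) • N (e i) := by
  obtain ⟨c, hc⟩ := (Submodule.mem_span_range_iff_exists_fun F).1 (he.range_le ⟨x, rfl⟩)
  rw [← hc]
  refine Finset.sum_congr rfl fun i _ => ?_
  have h1 : B x (N (e (σ i))) = c i := by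
    rw [hN.symm, ← hc]
    simp [map_sum, he.gram, hσ i]
  rw [h1]

omit [FiniteDimensional F V] in
theorem IsPre.shift (he : IsPre B N σ e) (hN : IsDev B N) (k : ι → V) (hk : ∀ i, N (k i) = 0) :
    IsPre B N σ (fun i => e i + k i) := by
  refine ⟨fun i j => ?_, ?_⟩
  · rw [map_add N, hk j, add_zero, map_add B, LinearMap.add_apply, he.gram, hN.symm (k i), hk i,
      map_zero, add_zero]
  · simp only [map_add, hk, add_zero]
    exact he.range_le

omit [FiniteDimensional F V] in
include hA in
theorem IsStd.gram_family (he : IsStd B N σ e) (hN : IsDev B N) :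
    ∀ a b : ι ⊕ ι, B (Sum.elim e (fun i => N (e i)) a) (Sum.elim e (fun i => N (e i)) b) =
      match a, b with
      | .inl i, .inr j => if σ i = j then 1 else 0
      | .inr i, .inl j => if σ j = i then 1 else 0
      | _, _ => 0 := by
  rintro (i | i) (j | j)
  · exact he.zero i j
  · exact he.gram i j
  · show B (N (e i)) (e j) = _
    rw [alt_comm hA, he.gram]
  · exact hN.image_isotropic _ _

omit [FiniteDimensional F V] in
include hA in
theorem IsStd.family_linearIndependent (he : IsStd B N σ e) (hN : IsDev B N)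
    (hσ : Function.Involutive σ) : LinearIndependent F (Sum.elim e fun i => N (e i)) := by
  rw [Fintype.linearIndependent_iff]
  intro c hc
  rintro (i | i)
  · have := congrArg (fun w => B (N (e (σ i))) w) hc
    simp only [map_sum, map_smul, Fintype.sum_sum_type, Sum.elim_inl, Sum.elim_inr, map_add,
      map_zero, hN.image_isotropic, smul_zero, Finset.sum_const_zero, add_zero] at this
    simpa [alt_comm hA (N (e (σ i))), he.gram, hσ.injective.eq_iff] using this
  · have := congrArg (fun w => B (e (σ i)) w) hc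
    simpa [map_sum, Fintype.sum_sum_type, he.gram, he.zero, hσ i] using this

omit [FiniteDimensional F V] in
include hA in
/-- Every preliminary family can be made isotropic. -/
theorem IsPre.exists_std (he : IsPre B N σ e) (hN : IsDev B N) (hσ : Function.Involutive σ) :
    ∃ e' : ι → V, IsStd B N σ e' := by
  let f : ι → ℕ := fun i => (Fintype.equivFin ι i : ℕ)
  have hf : Function.Injective f := fun a b h =>
    (Fintype.equivFin ι).injective (Fin.ext h)
  let M : ι → ι → F := fun i l => if f i < f (σ l) then B (e i) (e (σ l)) else 0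
  refine ⟨_, he.shift hN (fun i => ∑ l, M i l • N (e l)) (fun i => by simp [map_sum, hN.sq]), ?_⟩
  intro i j
  simp only [map_add, map_sum, map_smul, LinearMap.add_apply, LinearMap.coe_sum, Finset.sum_apply,
    LinearMap.smul_apply, smul_eq_mul, he.gram, alt_comm hA (N (e _)) (e j), hN.image_isotropic,
    mul_zero, Finset.sum_const_zero, add_zero, mul_ite, mul_one, Finset.sum_ite_eq,
    Finset.mem_univ, if_true, M, hσ i, hσ j]
  rcases lt_trichotomy (f i) (f j) with h | h | h
  · simp [h, not_lt.2 h.le, CharTwo.add_self_eq_zero]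
  · obtain rfl := hf h
    simp [show B (e i) (e i) = 0 from hA _]
  · simp [h, not_lt.2 h.le, alt_comm hA (e j), CharTwo.add_self_eq_zero]

include hA hB in
theorem exists_intertwine {N' : V →ₗ[F] V} (hN : IsDev B N) (hN' : IsDev B N') {e' : ι → V}
    (he : IsStd B N σ e) (he' : IsStd B N' σ e') (hσ : Function.Involutive σ) :
    ∃ g : V ≃ₗ[F] V, (∀ u v, B (g u) (g v) = B u v) ∧ ∀ x, g (N x) = N' (g x) := by
  let q := Fintype.equivFin (ι ⊕ ι)
  obtain ⟨g, hg, hgv⟩ := (CfsgLib.Forms.ofAlt B hA).exists_map_family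
    (CfsgLib.Forms.ofAlt_nondeg hB hA)
    (Sum.elim e (fun i => N (e i)) ∘ q.symm) (Sum.elim e' (fun i => N' (e' i)) ∘ q.symm)
    ((he.family_linearIndependent hA hN hσ).comp _ q.symm.injective)
    ((he'.family_linearIndependent hA hN' hσ).comp _ q.symm.injective)
    (fun a b => by
      show B _ _ = B _ _
      rw [Function.comp_apply, Function.comp_apply, Function.comp_apply, Function.comp_apply,
        he.gram_family hA hN, he'.gram_family hA hN'])
  have hfam : ∀ a, g (Sum.elim e (fun i => N (e i)) a) = Sum.elim e' (fun i => N' (e' i)) a := by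
    intro a
    simpa using hgv (q a)
  refine ⟨g, hg, fun x => ?_⟩
  rw [he.apply_eq hN hσ, he'.apply_eq hN' hσ, map_sum]
  refine Finset.sum_congr rfl fun i _ => ?_
  have h1 := hfam (.inr i)
  have h2 := hfam (.inr (σ i))
  have h3 : B (g x) (g (N (e (σ i)))) = B x (N (e (σ i))) := hg _ _
  simp only [Sum.elim_inr] at h1 h2
  rw [map_smul, h1, ← h3, h2]

end family

include hB in
/-- The non-alternating case: an orthonormal family. -/
theorem exists_pre_nonalt [Finite F] (hN : IsDev B N) (hna : ¬ Alt B N) :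
    ∃ (n : ℕ) (e : Fin (n + 1) → V), IsPre B N id e := by
  obtain ⟨C, hC⟩ := Submodule.exists_isCompl (LinearMap.ker N)
  have hdec : ∀ v, ∃ k ∈ LinearMap.ker N, ∃ c ∈ C, k + c = v := fun v =>
    Submodule.mem_sup.1 (hC.sup_eq_top.symm ▸ Submodule.mem_top)
  let Bt : LinearMap.BilinForm F C := LinearMap.compl₁₂ B C.subtype (N ∘ₗ C.subtype)
  have hBt : ∀ x y : C, Bt x y = B x (N y) := fun _ _ => rfl
  have hsym : Bt.IsSymm := ⟨fun x y => by simp only [hBt, RingHom.id_apply]; exact hN.symm _ _⟩
  have hl : ∀ x : C, (∀ y : C, Bt x y = 0) → x = 0 := by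
    intro x hx
    have h0 : N x = 0 := by
      refine hB.2 _ fun v => ?_
      obtain ⟨k, hk, c, hc, rfl⟩ := hdec v
      have hc0 := hx ⟨c, hc⟩
      rw [hBt, hN.symm] at hc0
      rw [map_add B, LinearMap.add_apply, hN.symm k, LinearMap.mem_ker.1 hk, map_zero, zero_add]
      exact hc0
    have := Submodule.disjoint_def.1 hC.disjoint x.1 (LinearMap.mem_ker.2 h0) x.2
    exact Subtype.ext this
  have hnd : Bt.Nondegenerate := ⟨hl, fun y hy => hl y fun x => by
    rw [← hy x]; exact (hsym.eq x y).symm⟩
  obtain ⟨v, hv⟩ := not_forall.1 hna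
  have hex : ∃ c : C, Bt c c ≠ 0 := by
    obtain ⟨k, hk, c, hc, rfl⟩ := hdec v
    refine ⟨⟨c, hc⟩, ?_⟩
    have hk' : N k = 0 := LinearMap.mem_ker.1 hk
    simpa [hBt, hk', hN.symm k c] using hv
  obtain ⟨n, hn⟩ : ∃ n, finrank F C = n + 1 := by
    obtain ⟨c, hc⟩ := hex
    have : c ≠ 0 := fun h => hc (by simp [h])
    exact Nat.exists_eq_add_one.2 (Module.finrank_pos_iff_exists_ne_zero.2 ⟨c, this⟩)
  obtain ⟨b, hb⟩ := CfsgLib.QuadStd.exists_orthonormal n Bt hsym hnd hex hn
  refine ⟨n, fun i => (b i : V), fun i j => hb i j, ?_⟩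
  rintro _ ⟨x, rfl⟩
  obtain ⟨k, hk, c, hc, rfl⟩ := hdec x
  rw [map_add, LinearMap.mem_ker.1 hk, zero_add]
  have hsum := congrArg Subtype.val (b.sum_repr ⟨c, hc⟩)
  simp only [Submodule.coe_sum, Submodule.coe_smul] at hsum
  rw [← hsum, map_sum]
  exact Submodule.sum_mem _ fun i _ => by
    rw [map_smul]; exact Submodule.smul_mem _ _ (Submodule.subset_span ⟨i, rfl⟩)

include hB in
/-- The alternating case: a hyperbolic family. -/
theorem exists_pre_alt (hN : IsDev B N) (ha : Alt B N) :
    ∃ (r : ℕ) (e : Fin r ⊕ Fin r → V), IsPre B N Sum.swap e := by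
  obtain ⟨r, k, b, h12, h11, h22, hrad⟩ :=
    CfsgLib.Forms.exists_symplectic_basis _ V (B.compl₂ N) (fun v => ha v) rfl
  simp only [LinearMap.compl₂_apply] at h12 h11 h22 hrad
  refine ⟨r, fun i => b (Sum.inl i), ?_, ?_⟩
  · rintro (i | i) (j | j) <;> simp only [Sum.swap_inl, Sum.swap_inr, reduceCtorEq, if_false]
    · exact h11 i j
    · simpa using h12 i j
    · rw [hN.symm, h12]
      simp [eq_comm]
    · exact h22 i j
  · rintro _ ⟨x, rfl⟩
    have hz : ∀ j, N (b (Sum.inr j)) = 0 := fun j => hB.2 _ fun v => by rw [hN.symm, hrad]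
    rw [← b.sum_repr x, map_sum, Fintype.sum_sum_type]
    simp only [map_smul, hz, smul_zero, Finset.sum_const_zero, add_zero]
    exact Submodule.sum_mem _ fun i _ => Submodule.smul_mem _ _ (Submodule.subset_span ⟨i, rfl⟩)

include hB in
theorem even_of_alt (hN : IsDev B N) (ha : Alt B N) : Even (finrank F (LinearMap.range N)) := by
  obtain ⟨r, e, he⟩ := exists_pre_alt hB hN ha
  rw [he.finrank_range Sum.swap_swap]
  simp

include hA hB in
/-- Rank and alternation classify involutions of a symplectic group. -/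
theorem exists_intertwine_of_invariants [Finite F] {N' : V →ₗ[F] V} (hN : IsDev B N)
    (hN' : IsDev B N') (hr : finrank F (LinearMap.range N) = finrank F (LinearMap.range N'))
    (ha : Alt B N ↔ Alt B N') :
    ∃ g : V ≃ₗ[F] V, (∀ u v, B (g u) (g v) = B u v) ∧ ∀ x, g (N x) = N' (g x) := by
  by_cases h : Alt B N
  · obtain ⟨r, e, he⟩ := exists_pre_alt hB hN h
    obtain ⟨r', e', he'⟩ := exists_pre_alt hB hN' (ha.1 h)
    rw [he.finrank_range Sum.swap_swap, he'.finrank_range Sum.swap_swap] at hr
    obtain rfl : r = r' := by simpa [← two_mul] using hr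
    obtain ⟨f, hf⟩ := he.exists_std hA hN Sum.swap_swap
    obtain ⟨f', hf'⟩ := he'.exists_std hA hN' Sum.swap_swap
    exact exists_intertwine hA hB hN hN' hf hf' Sum.swap_swap
  · obtain ⟨n, e, he⟩ := exists_pre_nonalt hB hN h
    obtain ⟨n', e', he'⟩ := exists_pre_nonalt hB hN' (mt ha.2 h)
    rw [he.finrank_range (fun _ => rfl), he'.finrank_range (fun _ => rfl)] at hr
    obtain rfl : n = n' := by simpa using hr
    obtain ⟨f, hf⟩ := he.exists_std hA hN (fun _ => rfl)
    obtain ⟨f', hf'⟩ := he'.exists_std hA hN' (fun _ => rfl)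
    exact exists_intertwine hA hB hN hN' hf hf' (fun _ => rfl)

end CfsgLib.Dye
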