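/-
The number of orthonormal bases for the dot product in characteristic two.
-/
import Cfsg.Agent.QuadStd.Orthonormal
import Mathlib.LinearAlgebra.Matrix.NonsingularInverse
import Mathlib.LinearAlgebra.Dimension.Constructions
import Mathlib.Algebra.CharP.Two

set_option autoImplicit false
set_option linter.unusedSectionVars false

namespace CfsgLib.Dye

open Matrix Module

variable {F : Type*} [Field F] [Finite F] [CharP F 2]

/-- The matrices with orthonormal rows. -/
abbrev OrthMat (F : Type*) [Field F] (n : ℕ) : Type _ :=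
  {A : Matrix (Fin n) (Fin n) F // A * Aᵀ = 1}

theorem card_orthMat_zero : Nat.card (OrthMat F 0) = 1 := by
  haveI : Unique (OrthMat F 0) :=
    { default := ⟨1, Subsingleton.elim _ _⟩, uniq := fun A => Subtype.ext (Subsingleton.elim _ _) }
  exact Nat.card_unique

theorem card_orthMat_one : Nat.card (OrthMat F 1) = 1 := by
  haveI : Unique (OrthMat F 1) :=
    { default := ⟨1, by simp⟩
      uniq := fun A => Subtype.ext (by
        ext i j
        obtain rfl := Subsingleton.elim i 0
        obtain rfl := Subsingleton.elim j 0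
        have h := congrFun (congrFun A.2 0) 0
        simp [Matrix.mul_apply] at h
        rcases mul_self_eq_one_iff.1 h with h | h
        · simpa using h
        · simpa [CharTwo.neg_eq] using h) }
  exact Nat.card_unique

/-- The admissible first rows. -/
abbrev FirstRow (F : Type*) [Field F] (n : ℕ) : Type _ :=
  {v : Fin n → F // ∑ i, v i = 1 ∧ v ≠ fun _ => 1}

theorem sum_mul_self {n : ℕ} (v : Fin n → F) : (∑ i, v i * v i) = (∑ i, v i) * ∑ i, v i :=
  (CharTwo.sum_mul_self _ v).symm

theorem first_row_mem {n : ℕ} (A : OrthMat F (n + 2)) :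
    ∑ i, A.1 0 i = 1 ∧ A.1 0 ≠ fun _ => 1 := by
  have h : ∀ i j, (∑ k, A.1 i k * A.1 j k) = if i = j then 1 else 0 := fun i j => by
    have := congrFun (congrFun A.2 i) j
    simpa [Matrix.mul_apply, Matrix.one_apply] using this
  have hs : ∀ i, ∑ k, A.1 i k = 1 := fun i => by
    have h1 := h i i
    rw [if_pos rfl, sum_mul_self] at h1
    rcases mul_self_eq_one_iff.1 h1 with h1 | h1
    · exact h1
    · rwa [CharTwo.neg_eq] at h1
  refine ⟨hs 0, fun hv => ?_⟩
  have h1 := h 0 1
  simp [hv, hs 1] at h1

theorem exists_first_row {n : ℕ} (v : FirstRow F (n + 2)) :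
    ∃ A : OrthMat F (n + 2), A.1 0 = v.1 := by
  obtain ⟨v, hv, hne⟩ := v
  set K : Submodule F (Fin (n + 2) → F) := LinearMap.ker (dotProductBilin F F v) with hK
  let B : LinearMap.BilinForm F K :=
    LinearMap.compl₁₂ (dotProductBilin F F) K.subtype K.subtype
  have hB : ∀ x y : K, B x y = (x : Fin (n + 2) → F) ⬝ᵥ y := fun _ _ => rfl
  have hvv : v ⬝ᵥ v = 1 := by
    rw [dotProduct, sum_mul_self v, hv, mul_one]
  have hdim : finrank F K = n + 1 := by
    have h1 := LinearMap.finrank_range_add_finrank_ker (dotProductBilin F F v)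
    have h2 : LinearMap.range (dotProductBilin F F v) = ⊤ := by
      rw [LinearMap.range_eq_top]
      exact fun a => ⟨a • v, by simp [hvv]⟩
    rw [h2, finrank_top, finrank_self, finrank_fin_fun, ← hK] at h1
    omega
  have hsym : B.IsSymm := ⟨fun x y => by simp only [hB]; exact dotProduct_comm _ _⟩
  have hl : ∀ x : K, (∀ y, B x y = 0) → x = 0 := by
    intro x hx
    refine Subtype.ext (funext fun k => ?_)
    have hy : (Pi.single k 1 - (v ⬝ᵥ Pi.single k 1) • v : Fin (n + 2) → F) ∈ K := by
      simp [hK, hvv]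
    have := hx ⟨_, hy⟩
    have hxv : v ⬝ᵥ (x : Fin (n + 2) → F) = 0 := x.2
    simpa [hB, dotProduct_comm (x : Fin (n + 2) → F) v, hxv] using this
  have hnd : B.Nondegenerate := ⟨hl, fun y hy => hl y fun x => by
    rw [← hy x]; exact (hsym.eq x y).symm⟩
  have hex : ∃ x : K, B x x ≠ 0 := by
    by_contra hc
    push Not at hc
    have hsum : ∀ x : Fin (n + 2) → F, v ⬝ᵥ x = 0 → ∑ i, x i = 0 := fun x hx => by
      have h2 : x ⬝ᵥ x = 0 := hc ⟨x, hx⟩
      rw [dotProduct, sum_mul_self] at h2
      exact mul_self_eq_zero.1 h2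
    refine hne (funext fun k => ?_)
    have := hsum (Pi.single k 1 + (v ⬝ᵥ Pi.single k 1) • v) (by
      simp [dotProduct_add, hvv, CharTwo.add_self_eq_zero])
    simp [Finset.sum_add_distrib, ← Finset.mul_sum, hv] at this
    rw [CharTwo.add_eq_zero] at this
    exact this.symm
  obtain ⟨b, hb⟩ := CfsgLib.QuadStd.exists_orthonormal n B hsym hnd hex hdim
  refine ⟨⟨Matrix.of (Fin.cons v fun i => (b i : Fin (n + 2) → F)), ?_⟩, rfl⟩
  ext i j
  rw [Matrix.mul_apply, Matrix.one_apply]
  show (Fin.cons v (fun i => (b i : Fin (n + 2) → F)) : Fin (n + 2) → Fin (n + 2) → F) i ⬝ᵥ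
    (Fin.cons v (fun i => (b i : Fin (n + 2) → F)) : Fin (n + 2) → Fin (n + 2) → F) j = _
  induction i using Fin.cases with
  | zero =>
    induction j using Fin.cases with
    | zero => simpa using hvv
    | succ j =>
      have h0 : v ⬝ᵥ (b j : Fin (n + 2) → F) = 0 := (b j).2
      simpa [(Fin.succ_ne_zero j).symm] using h0
  | succ i =>
    induction j using Fin.cases with
    | zero =>
      have h0 : v ⬝ᵥ (b i : Fin (n + 2) → F) = 0 := (b i).2
      simpa [Fin.succ_ne_zero, dotProduct_comm] using h0
    | succ j => simpa [hB] using hb i j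

theorem card_firstRow (n : ℕ) :
    Nat.card (FirstRow F (n + 2)) = Nat.card F ^ (n + 1) - if Even n then 0 else 1 := by
  classical
  haveI := Fintype.ofFinite F
  let e : {v : Fin (n + 2) → F // ∑ i, v i = 1} ≃ (Fin (n + 1) → F) :=
    { toFun := fun v i => v.1 i.succ
      invFun := fun w => ⟨Fin.cons (1 - ∑ i, w i) w, by simp [Fin.sum_univ_succ]⟩
      left_inv := fun v => by
        have h : ∑ i, v.1 i = 1 := v.2
        rw [Fin.sum_univ_succ] at h
        refine Subtype.ext (funext fun i => ?_)
        induction i using Fin.cases with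
        | zero => simp [← h]
        | succ i => simp
      right_inv := fun w => by funext i; simp }
  rw [Nat.card_congr (Equiv.subtypeSubtypeEquivSubtypeInter (fun v : Fin (n + 2) → F => ∑ i, v i = 1)
    (fun v => v ≠ fun _ => 1)).symm, Nat.card_eq_fintype_card, Fintype.card_subtype_compl,
    Fintype.card_congr e, Fintype.card_fun, Fintype.card_fin, ← Nat.card_eq_fintype_card]
  congr 1
  rw [Fintype.card_subtype]
  split_ifs with h
  · refine Finset.card_eq_zero.2 (Finset.filter_eq_empty_iff.2 fun v _ hv => ?_)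
    have := v.2
    rw [hv] at this
    obtain ⟨k, rfl⟩ := h
    simp [← two_mul, CharTwo.two_eq_zero] at this
  · obtain ⟨k, rfl⟩ := Nat.not_even_iff_odd.1 h
    refine Finset.card_eq_one.2 ⟨⟨fun _ => 1, by simp [CharTwo.two_eq_zero]⟩, ?_⟩
    ext v
    simp [Subtype.ext_iff]

theorem orth_transpose {n : ℕ} (A : OrthMat F n) : A.1ᵀ * A.1 = 1 :=
  mul_eq_one_comm.1 A.2

/-- Deleting the first row and column. -/
def fixFirstEquiv (n : ℕ) :
    {A : OrthMat F (n + 1) // A.1 0 = Pi.single 0 1} ≃ OrthMat F n where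
  toFun A := ⟨A.1.1.submatrix Fin.succ Fin.succ, by
    have hcol : ∀ i : Fin n, A.1.1 i.succ 0 = 0 := fun i => by
      have h := congrFun (congrFun A.1.2 i.succ) 0
      rw [Matrix.mul_apply] at h
      simpa [Matrix.transpose_apply, A.2, Fin.succ_ne_zero, Pi.single_apply] using h
    ext i j
    have h := congrFun (congrFun A.1.2 i.succ) j.succ
    rw [Matrix.mul_apply, Fin.sum_univ_succ] at h
    simpa [Matrix.mul_apply, hcol, Matrix.one_apply] using h⟩
  invFun A' := ⟨⟨Matrix.of (Fin.cons (Pi.single 0 1) fun i => Fin.cons 0 (A'.1 i)), by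
    ext i j
    rw [Matrix.mul_apply, Fin.sum_univ_succ]
    induction i using Fin.cases with
    | zero =>
      induction j using Fin.cases with
      | zero => simp
      | succ j => simp [(Fin.succ_ne_zero j).symm]
    | succ i =>
      induction j using Fin.cases with
      | zero => simp [Fin.succ_ne_zero]
      | succ j =>
        have h := congrFun (congrFun A'.2 i) j
        rw [Matrix.mul_apply] at h
        simpa [Matrix.one_apply] using h⟩, rfl⟩
  left_inv A := by
    refine Subtype.ext (Subtype.ext ?_)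
    ext i j
    induction i using Fin.cases with
    | zero => simp [A.2]
    | succ i =>
      induction j using Fin.cases with
      | zero =>
        have h := congrFun (congrFun A.1.2 i.succ) 0
        rw [Matrix.mul_apply] at h
        simp [Matrix.transpose_apply, A.2, Fin.succ_ne_zero, Pi.single_apply] at h
        simp [h]
      | succ j => simp
  right_inv A' := Subtype.ext (by ext i j; simp)

theorem card_orthMat_succ (n : ℕ) :
    Nat.card (OrthMat F (n + 2)) =
      (Nat.card F ^ (n + 1) - if Even n then 0 else 1) * Nat.card (OrthMat F (n + 1)) := by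
  classical
  haveI := Fintype.ofFinite (FirstRow F (n + 2))
  let p : OrthMat F (n + 2) → FirstRow F (n + 2) := fun A => ⟨A.1 0, first_row_mem A⟩
  have hfib : ∀ v, Nat.card {A // p A = v} = Nat.card (OrthMat F (n + 1)) := by
    intro v
    obtain ⟨Av, hAv⟩ := exists_first_row v
    have hrow : ∀ (A : Matrix (Fin (n + 2)) (Fin (n + 2)) F), A 0 = Pi.single 0 1 →
        (A * Av.1) 0 = v.1 := fun A hA => by
      rw [Matrix.mul_apply_eq_vecMul, hA, Matrix.single_one_vecMul, ← hAv]
      rfl
    let e : {A : OrthMat F (n + 2) // A.1 0 = Pi.single 0 1} ≃ {A // p A = v} :=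
      { toFun := fun A => ⟨⟨A.1.1 * Av.1, by
          rw [Matrix.transpose_mul, Matrix.mul_assoc, ← Matrix.mul_assoc Av.1, Av.2, Matrix.one_mul,
            A.1.2]⟩, Subtype.ext (hrow _ A.2)⟩
        invFun := fun A => ⟨⟨A.1.1 * Av.1ᵀ, by
          rw [Matrix.transpose_mul, Matrix.transpose_transpose, Matrix.mul_assoc,
            ← Matrix.mul_assoc Av.1ᵀ, orth_transpose Av, Matrix.one_mul, A.1.2]⟩, by
          have h : A.1.1 0 = v.1 := congrArg Subtype.val A.2
          show (A.1.1 * Av.1ᵀ) 0 = Pi.single 0 1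
          have h1 := congrFun Av.2 0
          rw [Matrix.mul_apply_eq_vecMul] at h1 ⊢
          rw [h, ← hAv, h1]
          funext j
          simp [Matrix.one_apply, Pi.single_apply, eq_comm]⟩
        left_inv := fun A => Subtype.ext (Subtype.ext (by
          show A.1.1 * Av.1 * Av.1ᵀ = _
          rw [Matrix.mul_assoc, Av.2, Matrix.mul_one]))
        right_inv := fun A => Subtype.ext (Subtype.ext (by
          show A.1.1 * Av.1ᵀ * Av.1 = _
          rw [Matrix.mul_assoc, orth_transpose Av, Matrix.mul_one])) }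
    rw [← Nat.card_congr e, Nat.card_congr (fixFirstEquiv (n + 1))]
  rw [Nat.card_congr (Equiv.sigmaFiberEquiv p).symm, Nat.card_sigma,
    Finset.sum_congr rfl fun v _ => hfib v, Finset.sum_const, smul_eq_mul, Finset.card_univ,
    ← Nat.card_eq_fintype_card, card_firstRow]

theorem card_orthMat : ∀ r : ℕ,
    Nat.card (OrthMat F (2 * r + 1)) =
      Nat.card F ^ (r ^ 2) * ∏ i ∈ Finset.range r, (Nat.card F ^ (2 * (i + 1)) - 1) ∧
    Nat.card (OrthMat F (2 * r + 2)) =
      Nat.card F ^ ((r + 1) ^ 2) * ∏ i ∈ Finset.range r, (Nat.card F ^ (2 * (i + 1)) - 1) := by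
  intro r
  induction r with
  | zero =>
    refine ⟨by simpa using card_orthMat_one (F := F), ?_⟩
    rw [card_orthMat_succ, card_orthMat_one]
    simp
  | succ r ih =>
    have h1 : Nat.card (OrthMat F (2 * (r + 1) + 1)) =
        Nat.card F ^ ((r + 1) ^ 2) * ∏ i ∈ Finset.range (r + 1), (Nat.card F ^ (2 * (i + 1)) - 1) := by
      rw [show 2 * (r + 1) + 1 = (2 * r + 1) + 2 by ring, card_orthMat_succ, ih.2,
        if_neg (by simp [parity_simps]), Finset.prod_range_succ,
        show 2 * r + 1 + 1 = 2 * (r + 1) by ring]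
      ring
    refine ⟨h1, ?_⟩
    rw [show 2 * (r + 1) + 2 = (2 * (r + 1)) + 2 by ring, card_orthMat_succ, h1,
      if_pos (even_two_mul _), Nat.sub_zero, ← mul_assoc, ← pow_add]
    congr 2
    ring

end CfsgLib.Dye
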