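/-
Involutory isometries of quadratic forms in characteristic two.
-/
import Cfsg.Agent.Dye.Basic
import Cfsg.Agent.Forms.Quadratic
import Mathlib.FieldTheory.Finite.Basic
import Mathlib.GroupTheory.Index

set_option autoImplicit false
set_option linter.unusedSectionVars false

namespace CfsgLib.Dye

open Module QuadraticMap

variable {F V : Type*} [Field F] [CharP F 2] [AddCommGroup V] [Module F V] [FiniteDimensional F V]

/-- `N = t - 1` for an involution of the orthogonal group of `Q`. -/
structure IsODev (Q : QuadraticForm F V) (N : V →ₗ[F] V) : Prop extends IsDev (polarBilin Q) N where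
  quad : ∀ x, Q (N x) = polar Q x (N x)

variable {Q : QuadraticForm F V} {N : V →ₗ[F] V}

theorem polar_isAlt (Q : QuadraticForm F V) : (polarBilin Q).IsAlt := fun v => by
  rw [polarBilin_apply_apply, polar_self, two_nsmul, CharTwo.add_self_eq_zero]

theorem quad_sum {α : Type*} (Q : QuadraticForm F V) (s : Finset α) (v : α → V)
    (h : ∀ a b, polar Q (v a) (v b) = 0) : Q (∑ a ∈ s, v a) = ∑ a ∈ s, Q (v a) := by
  classical
  induction s using Finset.induction_on with
  | empty => simp
  | insert a s ha ih =>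
    have h0 : polarBilin Q (v a) (∑ x ∈ s, v x) = 0 := by
      rw [map_sum]; exact Finset.sum_eq_zero fun x _ => h a x
    rw [Finset.sum_insert ha, Finset.sum_insert ha, CfsgLib.Forms.quad_add, ih,
      show polar Q (v a) (∑ x ∈ s, v x) = 0 from h0, add_zero]

section family

variable {ι : Type*} [Fintype ι] [DecidableEq ι] {σ : ι → ι} {e : ι → V}

theorem IsPre.quad_image (he : IsPre (polarBilin Q) N σ e) (hN : IsODev Q N) (i : ι) :
    Q (N (e i)) = if σ i = i then 1 else 0 := by
  rw [hN.quad]
  exact he.gram i i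

variable (hQ : (polarBilin Q).Nondegenerate)

include hQ in
theorem exists_intertwine_quad {N' : V →ₗ[F] V} (hN : IsODev Q N) (hN' : IsODev Q N') {e' : ι → V}
    (he : IsStd (polarBilin Q) N σ e) (he' : IsStd (polarBilin Q) N' σ e')
    (hσ : Function.Involutive σ) (hq : ∀ i, Q (e i) = Q (e' i)) :
    ∃ g : V ≃ₗ[F] V, (∀ u, Q (g u) = Q u) ∧ ∀ x, g (N x) = N' (g x) := by
  have hA := polar_isAlt Q
  let q := Fintype.equivFin (ι ⊕ ι)
  obtain ⟨g, hg, hgv⟩ := CfsgLib.Forms.quad_exists_map_family hQ
    (Sum.elim e (fun i => N (e i)) ∘ q.symm) (Sum.elim e' (fun i => N' (e' i)) ∘ q.symm)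
    ((he.family_linearIndependent hA hN.toIsDev hσ).comp _ q.symm.injective)
    ((he'.family_linearIndependent hA hN'.toIsDev hσ).comp _ q.symm.injective)
    (fun a => by
      simp only [Function.comp_apply]
      rcases q.symm a with i | i
      · exact hq i
      · simp [he.toIsPre.quad_image hN, he'.toIsPre.quad_image hN'])
    (fun a b => by
      show polarBilin Q _ _ = polarBilin Q _ _
      rw [Function.comp_apply, Function.comp_apply, Function.comp_apply, Function.comp_apply,
        he.gram_family hA hN.toIsDev, he'.gram_family hA hN'.toIsDev])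
  have hfam : ∀ a, g (Sum.elim e (fun i => N (e i)) a) = Sum.elim e' (fun i => N' (e' i)) a := by
    intro a
    simpa using hgv (q a)
  refine ⟨g, hg, fun x => ?_⟩
  rw [he.apply_eq hN.toIsDev hσ, he'.apply_eq hN'.toIsDev hσ, map_sum]
  refine Finset.sum_congr rfl fun i _ => ?_
  have h1 := hfam (.inr i)
  have h2 := hfam (.inr (σ i))
  have h3 : polarBilin Q (g x) (g (N (e (σ i)))) = polarBilin Q x (N (e (σ i))) := by
    simp only [polarBilin_apply_apply, polar, ← map_add, hg]
  simp only [Sum.elim_inr] at h1 h2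
  rw [map_smul, h1, ← h3, h2]

theorem IsStd.exists_zero (he : IsStd (polarBilin Q) N σ e) (hN : IsODev Q N)
    (hσ : Function.Involutive σ) (hfix : ∀ i, σ i ≠ i) :
    ∃ f : ι → V, IsStd (polarBilin Q) N σ f ∧ ∀ i, Q (f i) = 0 := by
  have hs := alt_comm (polar_isAlt Q)
  refine ⟨_, ⟨he.toIsPre.shift hN.toIsDev (fun i => Q (e i) • N (e (σ i)))
    (fun i => by simp [hN.sq]), fun i j => ?_⟩, fun i => ?_⟩
  · simp only [map_add, map_smul, LinearMap.add_apply, LinearMap.smul_apply, smul_eq_mul, he.gram,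
      hs (N (e _)) (e j), hN.image_isotropic, he.zero, mul_zero, add_zero, zero_add, hσ.injective.eq_iff]
    rcases eq_or_ne i j with rfl | h
    · simp [CharTwo.add_self_eq_zero]
    · simp [h, h.symm]
  · rw [CfsgLib.Forms.quad_add, CfsgLib.Forms.quad_smul, he.toIsPre.quad_image hN, polar_smul_right,
      if_neg (hfix (σ i)), mul_zero, add_zero, smul_eq_mul,
      show polar Q (e i) (N (e (σ i))) = 1 from (he.gram i (σ i)).trans (if_pos rfl), mul_one,
      CharTwo.add_self_eq_zero]

end family

section nonalt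

variable {n : ℕ} {e : Fin (n + 1) → V}

/-- All but the first vector singular. -/
theorem IsStd.exists_semi_zero [Finite F] (he : IsStd (polarBilin Q) N id e) (hN : IsODev Q N) :
    ∃ f : Fin (n + 1) → V, IsStd (polarBilin Q) N id f ∧ ∀ i, i ≠ 0 → Q (f i) = 0 := by
  have hs := alt_comm (polar_isAlt Q)
  choose s hs2 using fun i : Fin (n + 1) =>
    FiniteField.isSquare_of_char_two (ringChar.eq F 2) (Q (e i))
  let r : Fin (n + 1) → F := fun i => if i = 0 then 0 else s i
  have hr0 : r 0 = 0 := if_pos rfl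
  let k : Fin (n + 1) → V := fun i =>
    (if i = 0 then (1 : F) else 0) • (∑ l, r l • N (e l)) + r i • N (e 0)
  refine ⟨_, ⟨he.toIsPre.shift hN.toIsDev k (fun i => by simp only [k]; split_ifs <;> simp [map_sum, hN.sq]), fun i j => ?_⟩,
    fun i hi => ?_⟩
  · simp only [k, map_add, map_sum, map_smul, LinearMap.add_apply, LinearMap.coe_sum,
      Finset.sum_apply, LinearMap.smul_apply, smul_eq_mul, he.gram, hs (N (e _)) (e j),
      hN.image_isotropic, he.zero, mul_zero, add_zero, zero_add, Finset.sum_const_zero, id_eq,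
      mul_ite, mul_one, Finset.sum_ite_eq, Finset.mem_univ, if_true]
    split_ifs <;> simp [CharTwo.add_self_eq_zero, add_left_comm, add_assoc]
  · simp only [k, if_neg hi, zero_smul, zero_add]
    rw [CfsgLib.Forms.quad_add, CfsgLib.Forms.quad_smul, he.toIsPre.quad_image hN, polar_smul_right,
      show polar Q (e i) (N (e 0)) = 0 from (he.gram i 0).trans (if_neg hi), smul_zero, add_zero,
      if_pos (show id (0 : Fin (n + 1)) = 0 from rfl), mul_one]
    simp [r, hi, hs2 i, CharTwo.add_self_eq_zero]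

theorem IsStd.shift_zero (he : IsStd (polarBilin Q) N id e) (hN : IsODev Q N) (a : F) :
    IsStd (polarBilin Q) N id (fun i => e i + (if i = 0 then a else 0) • N (e 0)) ∧
      Q (e 0 + a • N (e 0)) = Q (e 0) + a * a + a := by
  have hs := alt_comm (polar_isAlt Q)
  refine ⟨⟨he.toIsPre.shift hN.toIsDev _ (fun i => by split_ifs <;> simp [hN.sq]), fun i j => ?_⟩, ?_⟩
  · simp only [map_add, map_smul, LinearMap.add_apply, LinearMap.smul_apply, smul_eq_mul, he.gram,
      hs (N (e _)) (e j), hN.image_isotropic, he.zero, mul_zero, add_zero, zero_add, id_eq]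
    split_ifs <;> simp_all [CharTwo.add_self_eq_zero]
  · rw [CfsgLib.Forms.quad_add, CfsgLib.Forms.quad_smul, he.toIsPre.quad_image hN, polar_smul_right,
      show polar Q (e 0) (N (e 0)) = 1 from (he.gram 0 0).trans (if_pos rfl), if_pos (show id (0 : Fin (n + 1)) = 0 from rfl)]
    simp

variable (hQ : (polarBilin Q).Nondegenerate)

include hQ in
/-- If the involution does not use the whole space all the vectors can be made singular. -/
theorem IsStd.exists_all_zero [Finite F] (he : IsStd (polarBilin Q) N id e) (hN : IsODev Q N)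
    (hlt : 2 * (n + 1) < finrank F V) (hq : ∀ i, i ≠ 0 → Q (e i) = 0) :
    ∃ f : Fin (n + 1) → V, IsStd (polarBilin Q) N id f ∧ ∀ i, Q (f i) = 0 := by
  have hA := polar_isAlt Q
  have hs := alt_comm hA
  let φ : V →ₗ[F] (Fin (n + 1) ⊕ Fin (n + 1) → F) :=
    LinearMap.pi fun a => polarBilin Q (Sum.elim e (fun i => N (e i)) a)
  obtain ⟨k, hk, hk0⟩ := Submodule.exists_mem_ne_zero_of_ne_bot
    (LinearMap.ker_ne_bot_of_finrank_lt (f := φ) (by simp; omega))
  obtain ⟨y, hy⟩ : ∃ y, polar Q k y ≠ 0 := by
    by_contra h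
    push Not at h
    exact hk0 (hQ.1 k h)
  set y' := y + (∑ i, polar Q (N (e i)) y • e i + ∑ i, polar Q (e i) y • N (e i)) with hy'
  have hkφ : ∀ a, polarBilin Q (Sum.elim e (fun i => N (e i)) a) k = 0 := fun a =>
    congrFun (LinearMap.mem_ker.1 hk) a
  have hy'φ : ∀ a, polarBilin Q (Sum.elim e (fun i => N (e i)) a) y' = 0 := by
    rintro (i | i)
    · simp [hy', map_sum, he.zero, he.gram, -polarBilin_apply_apply]
      simp [CharTwo.add_self_eq_zero]
    · simp [hy', map_sum, hs (N (e i)) (e _), hN.image_isotropic, he.gram, -polarBilin_apply_apply]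
      simp [CharTwo.add_self_eq_zero]
  have hky : polar Q k y' = polar Q k y := by
    have hke : ∀ i, polarBilin Q k (e i) = 0 := fun i => by rw [hs]; exact hkφ (.inl i)
    have hku : ∀ i, polarBilin Q k (N (e i)) = 0 := fun i => by rw [hs]; exact hkφ (.inr i)
    show polarBilin Q k y' = _
    simp [hy', map_sum, hke, hku, -polarBilin_apply_apply]
    rfl
  obtain ⟨z, hz, hQz⟩ : ∃ z, (∀ a, polarBilin Q (Sum.elim e (fun i => N (e i)) a) z = 0) ∧ Q z ≠ 0 := by
    by_contra h
    push Not at h
    refine hy ?_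
    rw [← hky, polar, h _ (fun a => by rw [map_add, hkφ, hy'φ, add_zero]), h k hkφ, h y' hy'φ]
    ring
  obtain ⟨a, ha⟩ := FiniteField.isSquare_of_char_two (ringChar.eq F 2) (Q (e 0) / Q z)
  have hNz : N z = 0 := by
    rw [he.toIsPre.apply_eq hN.toIsDev (fun _ => rfl)]
    refine Finset.sum_eq_zero fun i _ => ?_
    rw [show polarBilin Q z (N (e (id i))) = 0 from (hs _ _).trans (hz (.inr i)), zero_smul]
  refine ⟨_, ⟨he.toIsPre.shift hN.toIsDev (fun i => (if i = 0 then a else 0) • z)
    (fun i => by split_ifs <;> simp [hNz]), fun i j => ?_⟩, fun i => ?_⟩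
  · have hz' : ∀ i, polarBilin Q z (e i) = 0 := fun i => (hs _ _).trans (hz (.inl i))
    have hz'' : ∀ i, polarBilin Q (e i) z = 0 := fun i => hz (.inl i)
    have hzz : polarBilin Q z z = 0 := hA z
    split_ifs <;> simp [hz', hz'', hzz, he.zero, -polarBilin_apply_apply]
  · rw [CfsgLib.Forms.quad_add, CfsgLib.Forms.quad_smul, polar_smul_right,
      show polar Q (e i) z = 0 from hz (.inl i), smul_zero, add_zero]
    split_ifs with h
    · subst h
      rw [← ha, div_mul_cancel₀ _ hQz, CharTwo.add_self_eq_zero]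
    · rw [hq i h, zero_mul, zero_mul, add_zero]

include hQ in
/-- A totally singular subspace of half the dimension forces the invariant to be trivial. -/
theorem IsStd.exists_artin_schreier (he : IsStd (polarBilin Q) N id e) (hN : IsODev Q N)
    (hdim : finrank F V = 2 * (n + 1)) (hq : ∀ i, i ≠ 0 → Q (e i) = 0) {w : Fin (n + 1) → V}
    (hw : LinearIndependent F w) (hQw : ∀ i, Q (w i) = 0)
    (hww : ∀ i j, polar Q (w i) (w j) = 0) : ∃ a : F, Q (e 0) = a * a + a := by
  have hA := polar_isAlt Q
  have hs := alt_comm hA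
  have hli := he.family_linearIndependent hA hN.toIsDev (fun _ => rfl)
  obtain ⟨g, hg, hgw⟩ := CfsgLib.Forms.quad_exists_map_family hQ (w ∘ Fin.castSucc) (e ∘ Fin.succ)
    (hw.comp _ (Fin.castSucc_injective n))
    (hli.comp (fun i : Fin n => Sum.inl i.succ) (fun a b h => Fin.succ_injective n (Sum.inl.inj h)))
    (fun i => by simp [hQw, hq _ (Fin.succ_ne_zero i)])
    (fun i j => by simp [hww]; exact (he.zero _ _).symm)
  set z := g (w (Fin.last n)) with hz
  have hQz : Q z = 0 := by rw [hz, hg, hQw]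
  have hze : ∀ i : Fin n, polar Q (e i.succ) z = 0 := fun i => by
    rw [← show g (w i.castSucc) = e i.succ from hgw i, hz, polar, ← map_add, hg, hg, hg]
    exact hww _ _
  have hznot : z ∉ Submodule.span F (Set.range (e ∘ Fin.succ)) := by
    have hgl : LinearIndependent F (g ∘ w) := hw.map' g.toLinearMap g.ker
    have h : (e ∘ Fin.succ) = (g ∘ w) ∘ Fin.castSucc := funext fun i => (hgw i).symm
    rw [h, Set.range_comp]
    exact hgl.notMem_span_image (by rintro ⟨i, hi⟩; exact Fin.castSucc_ne_last i hi)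
  obtain ⟨c, hc⟩ := (Submodule.mem_span_range_iff_exists_fun F).1
    ((hli.span_eq_top_of_card_eq_finrank' (by simp [hdim]; omega)).symm ▸ Submodule.mem_top :
      z ∈ Submodule.span F (Set.range (Sum.elim e fun i => N (e i))))
  have hb : ∀ i, c (.inr i) = polarBilin Q (e i) z := fun i => by
    rw [← hc]
    simp [map_sum, Fintype.sum_sum_type, he.zero, he.gram, -polarBilin_apply_apply]
  rw [Fintype.sum_sum_type, Fin.sum_univ_succ, Fin.sum_univ_succ] at hc
  simp only [Sum.elim_inl, Sum.elim_inr,
    show ∀ i : Fin n, c (.inr i.succ) = 0 from fun i => (hb _).trans (hze i), zero_smul,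
    Finset.sum_const_zero, add_zero] at hc
  set a := c (.inl 0)
  set b := c (.inr 0)
  set s := ∑ i : Fin n, c (.inl i.succ) • e i.succ with hsdef
  have hs0 : Q s = 0 := by
    rw [hsdef, quad_sum _ _ _ (fun i j => by
      rw [polar_smul_left, polar_smul_right, show polar Q (e i.succ) (e j.succ) = 0 from he.zero _ _,
        smul_zero, smul_zero])]
    exact Finset.sum_eq_zero fun i _ => by
      rw [CfsgLib.Forms.quad_smul, hq _ (Fin.succ_ne_zero i), mul_zero]
  have hp : polarBilin Q (a • e 0 + b • N (e 0)) s = 0 := by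
    simp [hsdef, map_sum, he.zero, hs (N (e 0)) (e _), he.gram, (Fin.succ_ne_zero _),
      -polarBilin_apply_apply]
  have hz2 : z = a • e 0 + b • N (e 0) + s := by rw [← hc]; abel
  rw [hz2, CfsgLib.Forms.quad_add, hs0, show polar Q (a • e 0 + b • N (e 0)) s = 0 from hp,
    CfsgLib.Forms.quad_add, CfsgLib.Forms.quad_smul, CfsgLib.Forms.quad_smul,
    he.toIsPre.quad_image hN, polar_smul_left, polar_smul_right,
    show polar Q (e 0) (N (e 0)) = 1 from (he.gram 0 0).trans (if_pos rfl), if_pos (show id (0 : Fin (n + 1)) = 0 from rfl)]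
    at hQz
  simp only [smul_eq_mul, mul_one, add_zero] at hQz
  by_cases ha : a = 0
  · refine absurd ?_ hznot
    rw [ha] at hQz
    have hb0 : b = 0 := by simpa using hQz
    rw [hz2, ha, hb0, zero_smul, zero_smul, add_zero, zero_add, hsdef]
    exact Submodule.sum_mem _ fun i _ =>
      Submodule.smul_mem _ _ (Submodule.subset_span ⟨i, rfl⟩)
  · refine ⟨b / a, ?_⟩
    field_simp
    linear_combination hQz - (b * b + a * b) * CharTwo.two_eq_zero (R := F)

end nonalt

/-- The Artin–Schreier image has index two. -/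
theorem artin_schreier_add [Finite F] {x y : F} (hx : ∀ a, x ≠ a * a + a) (hy : ∀ a, y ≠ a * a + a) :
    ∃ a, x + y = a * a + a := by
  let φ : F →+ F :=
    { toFun := fun a => a * a + a
      map_zero' := by simp
      map_add' := fun a b => by linear_combination (a * b) * CharTwo.two_eq_zero (R := F) }
  have hker : Nat.card φ.ker = 2 := by
    have hset : (φ.ker : Set F) = {0, 1} := by
      ext a
      simp only [SetLike.mem_coe, AddMonoidHom.mem_ker, Set.mem_insert_iff, Set.mem_singleton_iff]
      show a * a + a = 0 ↔ _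
      constructor
      · intro h
        rcases mul_eq_zero.1 (show a * (a + 1) = 0 by linear_combination h) with h | h
        · exact Or.inl h
        · exact Or.inr (by rwa [CharTwo.add_eq_zero] at h)
      · rintro (rfl | rfl) <;> simp [CharTwo.add_self_eq_zero]
    rw [← SetLike.coe_sort_coe, hset, Nat.card_coe_set_eq, Set.ncard_pair zero_ne_one]
  have hidx : φ.range.index = 2 := by
    have h1 := φ.ker.card_mul_index
    have h2 := φ.range.card_mul_index
    rw [AddSubgroup.index_ker, hker] at h1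
    rw [← h1, mul_comm 2] at h2
    exact Nat.eq_of_mul_eq_mul_left Nat.card_pos h2
  obtain ⟨a, ha⟩ := (AddSubgroup.add_mem_iff_of_index_two hidx (a := x) (b := y)).2
    ⟨fun ⟨a, ha⟩ => absurd ha.symm (hx a), fun ⟨a, ha⟩ => absurd ha.symm (hy a)⟩
  exact ⟨a, ha.symm⟩

variable (hQ : (polarBilin Q).Nondegenerate)

include hQ in
/-- Rank and alternation classify involutions of an orthogonal group. -/
theorem exists_intertwine_quad_of_invariants [Finite F] {N' : V →ₗ[F] V} (hN : IsODev Q N)
    (hN' : IsODev Q N') (hr : finrank F (LinearMap.range N) = finrank F (LinearMap.range N'))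
    (ha : Alt (polarBilin Q) N ↔ Alt (polarBilin Q) N') :
    ∃ g : V ≃ₗ[F] V, (∀ u, Q (g u) = Q u) ∧ ∀ x, g (N x) = N' (g x) := by
  have hA := polar_isAlt Q
  by_cases h : Alt (polarBilin Q) N
  · obtain ⟨r, e, he⟩ := exists_pre_alt hQ hN.toIsDev h
    obtain ⟨r', e', he'⟩ := exists_pre_alt hQ hN'.toIsDev (ha.1 h)
    rw [he.finrank_range Sum.swap_swap, he'.finrank_range Sum.swap_swap] at hr
    obtain rfl : r = r' := by simpa [← two_mul] using hr
    have hfix : ∀ i : Fin r ⊕ Fin r, Sum.swap i ≠ i := by rintro (i | i) <;> simp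
    obtain ⟨f, hf⟩ := he.exists_std hA hN.toIsDev Sum.swap_swap
    obtain ⟨f', hf'⟩ := he'.exists_std hA hN'.toIsDev Sum.swap_swap
    obtain ⟨p, hp, hp0⟩ := hf.exists_zero hN Sum.swap_swap hfix
    obtain ⟨p', hp', hp0'⟩ := hf'.exists_zero hN' Sum.swap_swap hfix
    exact exists_intertwine_quad hQ hN hN' hp hp' Sum.swap_swap fun i => by rw [hp0, hp0']
  · obtain ⟨n, e, he⟩ := exists_pre_nonalt hQ hN.toIsDev h
    obtain ⟨n', e', he'⟩ := exists_pre_nonalt hQ hN'.toIsDev (mt ha.2 h)
    rw [he.finrank_range (fun _ => rfl), he'.finrank_range (fun _ => rfl)] at hr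
    obtain rfl : n = n' := by simpa using hr
    have hle := two_mul_le hQ hN.toIsDev
    rw [he.finrank_range (fun _ => rfl), Fintype.card_fin] at hle
    obtain ⟨f, hf⟩ := he.exists_std hA hN.toIsDev (fun _ => rfl)
    obtain ⟨f', hf'⟩ := he'.exists_std hA hN'.toIsDev (fun _ => rfl)
    obtain ⟨p, hp, hp0⟩ := hf.exists_semi_zero hN
    obtain ⟨p', hp', hp0'⟩ := hf'.exists_semi_zero hN'
    rcases hle.lt_or_eq with hlt | heq
    · obtain ⟨q, hq, hq0⟩ := hp.exists_all_zero hQ hN hlt hp0
      obtain ⟨q', hq', hq0'⟩ := hp'.exists_all_zero hQ hN' hlt hp0'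
      exact exists_intertwine_quad hQ hN hN' hq hq' (fun _ => rfl) fun i => by rw [hq0, hq0']
    · have key : ∀ (M M' : V →ₗ[F] V) (u u' : Fin (n + 1) → V), IsODev Q M → IsODev Q M' →
          IsStd (polarBilin Q) M id u → IsStd (polarBilin Q) M' id u' →
          (∀ i, i ≠ 0 → Q (u i) = 0) → (∀ i, i ≠ 0 → Q (u' i) = 0) →
          (∃ a, Q (u 0) = a * a + a) → ∃ a, Q (u' 0) = a * a + a := by
        rintro M M' u u' hM hM' hu hu' h0 h0' ⟨a, ha⟩
        obtain ⟨hstd, hq⟩ := hu.shift_zero hM a
        refine hu'.exists_artin_schreier hQ hM' heq.symm h0'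
          ((hstd.family_linearIndependent hA hM.toIsDev (fun _ => rfl)).comp _ Sum.inl_injective)
          (fun i => ?_) hstd.zero
        show Q (u i + (if i = 0 then a else 0) • M (u 0)) = 0
        split_ifs with hi
        · subst hi
          rw [hq, ha, add_assoc, CharTwo.add_self_eq_zero]
        · rw [zero_smul, add_zero, h0 i hi]
      obtain ⟨a, hd⟩ : ∃ a, Q (p 0) + Q (p' 0) = a * a + a := by
        by_cases h1 : ∃ a, Q (p 0) = a * a + a
        · obtain ⟨a, ha1⟩ := h1
          obtain ⟨b, hb⟩ := key N N' p p' hN hN' hp hp' hp0 hp0' ⟨a, ha1⟩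
          exact ⟨a + b, by linear_combination ha1 + hb - (a * b) * CharTwo.two_eq_zero (R := F)⟩
        · refine artin_schreier_add (fun a ha1 => h1 ⟨a, ha1⟩) fun b hb => h1 ?_
          exact key N' N p' p hN' hN hp' hp hp0' hp0 ⟨b, hb⟩
      obtain ⟨hstd, hq⟩ := hp.shift_zero hN a
      refine exists_intertwine_quad hQ hN hN' hstd hp' (fun _ => rfl) fun i => ?_
      by_cases hi : i = 0
      · subst hi
        simp only [if_true]
        rw [hq]
        linear_combination hd + (a * a + a - Q (p' 0)) * CharTwo.two_eq_zero (R := F) - (a * a + a) * CharTwo.two_eq_zero (R := F) + (a * a + a) * CharTwo.two_eq_zero (R := F)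
      · rw [hp0' i hi, if_neg hi, zero_smul, add_zero, hp0 i hi]

end CfsgLib.Dye
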