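/-
Representatives of the classes of involutions.
-/
import Cfsg.Agent.Dye.Quad

set_option autoImplicit false
set_option linter.unusedSectionVars false

namespace CfsgLib.Dye

open Module QuadraticMap

variable {F V : Type*} [Field F] [CharP F 2] [AddCommGroup V] [Module F V] [FiniteDimensional F V]
  {ι : Type*} [Fintype ι] [DecidableEq ι]

/-- The map built from a totally isotropic family. -/
def devOf (B : LinearMap.BilinForm F V) (σ : ι → ι) (u : ι → V) : V →ₗ[F] V :=
  ∑ i, ((LinearMap.flip B) (u (σ i))).smulRight (u i)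

theorem devOf_apply (B : LinearMap.BilinForm F V) (σ : ι → ι) (u : ι → V) (x : V) :
    devOf B σ u x = ∑ i, B x (u (σ i)) • u i := by
  simp [devOf, LinearMap.coe_sum, Finset.sum_apply]

variable {B : LinearMap.BilinForm F V} {σ : ι → ι} {u : ι → V}

theorem isDev_devOf (hA : B.IsAlt) (hσ : Function.Involutive σ) (hu : ∀ i j, B (u i) (u j) = 0) :
    IsDev B (devOf B σ u) := by
  refine ⟨fun x => ?_, fun x y => ?_⟩
  · rw [devOf_apply]
    refine Finset.sum_eq_zero fun i _ => ?_
    rw [devOf_apply]
    simp [map_sum, LinearMap.coe_sum, hu]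
  · simp only [devOf_apply, map_sum, map_smul, smul_eq_mul]
    refine Fintype.sum_equiv hσ.toPerm _ _ fun i => ?_
    simp only [Function.Involutive.coe_toPerm]
    rw [hσ i]
    ring

theorem exists_dual (hA : B.IsAlt) (hB : B.Nondegenerate) (hli : LinearIndependent F u) (c : ι → F) :
    ∃ x, ∀ i, B x (u i) = c i := by
  classical
  obtain ⟨f, hf⟩ := LinearMap.exists_extend ((Basis.span hli).constr F c)
  obtain ⟨x, hx⟩ := (CfsgLib.Forms.ofAlt B hA).exists_h_eq (CfsgLib.Forms.ofAlt_nondeg hB hA) f
  refine ⟨x, fun i => ?_⟩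
  rw [alt_comm hA, show B (u i) x = f (u i) from hx (u i)]
  have := LinearMap.congr_fun hf (Basis.span hli i)
  rw [Basis.constr_basis, LinearMap.comp_apply, Submodule.coe_subtype] at this
  rw [← this]
  congr 1
  exact congrArg Subtype.val (Basis.span_apply hli i).symm

theorem finrank_devOf (hA : B.IsAlt) (hB : B.Nondegenerate) (hσ : Function.Involutive σ)
    (hli : LinearIndependent F u) :
    finrank F (LinearMap.range (devOf B σ u)) = Fintype.card ι := by
  have h : LinearMap.range (devOf B σ u) = Submodule.span F (Set.range u) := by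
    refine le_antisymm ?_ (Submodule.span_le.2 ?_)
    · rintro _ ⟨x, rfl⟩
      rw [devOf_apply]
      exact Submodule.sum_mem _ fun i _ => Submodule.smul_mem _ _ (Submodule.subset_span ⟨i, rfl⟩)
    · rintro _ ⟨k, rfl⟩
      obtain ⟨x, hx⟩ := exists_dual hA hB hli (fun j => if σ j = k then 1 else 0)
      exact ⟨x, by simp [devOf_apply, hx, hσ _]⟩
  rw [h, finrank_span_eq_card hli]

theorem alt_devOf (hσ : Function.Involutive σ) (hfix : ∀ i, σ i ≠ i) : Alt B (devOf B σ u) := by
  intro x
  rw [devOf_apply, map_sum]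
  refine Finset.sum_involution (fun i _ => σ i) (fun i _ => ?_) (fun i _ _ => hfix i)
    (fun i _ => Finset.mem_univ _) (fun i _ => hσ i)
  simp only [map_smul, smul_eq_mul, hσ i]
  rw [mul_comm, CharTwo.add_self_eq_zero]

theorem not_alt_devOf [Nonempty ι] (hA : B.IsAlt) (hB : B.Nondegenerate)
    (hli : LinearIndependent F u) : ¬ Alt B (devOf B id u) := by
  intro h
  obtain ⟨k⟩ := (inferInstance : Nonempty ι)
  obtain ⟨x, hx⟩ := exists_dual hA hB hli (fun j => if j = k then 1 else 0)
  have := h x
  simp [devOf_apply, map_sum, hx] at this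

theorem isODev_devOf {Q : QuadraticForm F V} (hσ : Function.Involutive σ)
    (hu : ∀ i j, polar Q (u i) (u j) = 0) (hQu : ∀ i, Q (u i) = if σ i = i then 1 else 0) :
    IsODev Q (devOf (polarBilin Q) σ u) := by
  refine ⟨isDev_devOf (polar_isAlt Q) hσ hu, fun x => ?_⟩
  have hpol : polar Q x (devOf (polarBilin Q) σ u x) =
      ∑ i, polar Q x (u (σ i)) * polar Q x (u i) := by
    rw [show polar Q x (devOf (polarBilin Q) σ u x) = polarBilin Q x (devOf (polarBilin Q) σ u x) from rfl,
      devOf_apply, map_sum]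
    simp
  rw [hpol, devOf_apply, quad_sum _ _ _ (fun i j => by
    rw [polar_smul_left, polar_smul_right, hu, smul_zero, smul_zero])]
  rw [← sub_eq_zero, ← Finset.sum_sub_distrib]
  refine Finset.sum_involution (fun i _ => σ i) (fun i _ => ?_) (fun i _ hne => ?_)
    (fun i _ => Finset.mem_univ _) (fun i _ => hσ i)
  · rcases eq_or_ne (σ i) i with h | h
    · simp [h, CfsgLib.Forms.quad_smul, hQu, CharTwo.add_self_eq_zero]
    · have h' : σ (σ i) ≠ σ i := fun e => h (hσ.injective e)
      simp only [CfsgLib.Forms.quad_smul, hQu, if_neg h, if_neg h.symm, mul_zero, zero_sub, hσ i,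
        polarBilin_apply_apply]
      rw [mul_comm (polar _ x (u i)), CharTwo.add_self_eq_zero]
  · intro h
    refine hne ?_
    simp [h, CfsgLib.Forms.quad_smul, hQu]

end CfsgLib.Dye
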