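/-
Classes of involutions in symplectic and orthogonal groups, characteristic two.
-/
import Cfsg.Agent.Dye.Exist
import Cfsg.Agent.Quad.Matrices
import Cfsg.Agent.Classical.SymplecticBasic
import Mathlib.Data.Nat.Factorization.Basic
import Mathlib.Algebra.Group.ConjFinite
import Mathlib.GroupTheory.OrderOfElement

set_option autoImplicit false
set_option linter.unusedSectionVars false

namespace CfsgLib.Dye

open Module QuadraticMap

/-- Counting classes of involutions by a complete invariant. -/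
theorem card_classes {Γ : Type*} [Group Γ] {α : Type*} [DecidableEq α] (inv : Γ → α) (S : Finset α)
    (hiff : ∀ g h : Γ, orderOf g = 2 → orderOf h = 2 → (IsConj g h ↔ inv g = inv h))
    (hmem : ∀ g : Γ, orderOf g = 2 → inv g ∈ S) (hsurj : ∀ a ∈ S, ∃ g : Γ, orderOf g = 2 ∧ inv g = a) :
    Nat.card {C : ConjClasses Γ // ∃ g : Γ, ConjClasses.mk g = C ∧ orderOf g = 2} = S.card := by
  classical
  choose w hw1 hw2 using fun a : {a // a ∈ S} => hsurj a.1 a.2
  let f : {a // a ∈ S} → {C : ConjClasses Γ // ∃ g : Γ, ConjClasses.mk g = C ∧ orderOf g = 2} :=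
    fun a => ⟨ConjClasses.mk (w a), w a, rfl, hw1 a⟩
  have hf : Function.Bijective f := by
    refine ⟨fun a b h => ?_, fun C => ?_⟩
    · have h1 := (hiff _ _ (hw1 a) (hw1 b)).1 (ConjClasses.mk_eq_mk_iff_isConj.1 (congrArg Subtype.val h))
      exact Subtype.ext (by rw [← hw2 a, h1, hw2 b])
    · obtain ⟨C, g, hg, ho⟩ := C
      refine ⟨⟨inv g, hmem g ho⟩, Subtype.ext ?_⟩
      show ConjClasses.mk (w _) = C
      rw [← hg, ConjClasses.mk_eq_mk_iff_isConj]
      exact (hiff _ _ (hw1 _) ho).2 (hw2 _)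
  rw [← Nat.card_eq_of_bijective f hf, Nat.card_eq_fintype_card, Fintype.card_coe]

/-- The pairs (rank, alternation) that occur; `K` bounds the alternating ranks. -/
def classSet (m K : ℕ) : Finset (ℕ × Bool) :=
  (Finset.Ioc 0 m) ×ˢ {false} ∪ ((Finset.Ioc 0 K).filter (2 ∣ ·)) ×ˢ {true}

theorem mem_classSet {m K : ℕ} (p : ℕ × Bool) :
    p ∈ classSet m K ↔ (p.2 = false ∧ 0 < p.1 ∧ p.1 ≤ m) ∨ (p.2 = true ∧ 0 < p.1 ∧ p.1 ≤ K ∧ 2 ∣ p.1) := by
  obtain ⟨k, b⟩ := p
  cases b <;> simp [classSet, and_assoc]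

theorem card_classSet (m K : ℕ) : (classSet m K).card = m + K / 2 := by
  rw [classSet, Finset.card_union_of_disjoint, Finset.card_product, Finset.card_product,
    Nat.Ioc_filter_dvd_card_eq_div]
  · simp
  · rw [Finset.disjoint_left]
    rintro ⟨k, b⟩ h1 h2
    simp only [Finset.mem_product, Finset.mem_singleton] at h1 h2
    rw [h1.2] at h2
    exact Bool.noConfusion h2.2

variable {F V : Type*} [Field F] [CharP F 2] [AddCommGroup V] [Module F V] [FiniteDimensional F V]

/-- `g - 1`. -/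
def devL (g : V ≃ₗ[F] V) : V →ₗ[F] V := g.toLinearMap - LinearMap.id

theorem devL_apply (g : V ≃ₗ[F] V) (x : V) : devL g x = g x - x := rfl

theorem add_self_vec (F : Type*) {V : Type*} [Field F] [CharP F 2] [AddCommGroup V] [Module F V]
    (x : V) : x + x = 0 := by
  rw [← two_smul F, CharTwo.two_eq_zero, zero_smul]

theorem apply_eq_add (g : V ≃ₗ[F] V) (x : V) : g x = x + devL g x := by
  rw [devL_apply]; abel

theorem isDev_of_invol {B : LinearMap.BilinForm F V} (hA : B.IsAlt) {g : V ≃ₗ[F] V} (h : g * g = 1)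
    (hB : ∀ u v, B (g u) (g v) = B u v) : IsDev B (devL g) := by
  have hgg : ∀ x, g (g x) = x := fun x => LinearEquiv.congr_fun h x
  refine ⟨fun x => ?_, fun x y => ?_⟩
  · rw [devL_apply, devL_apply, map_sub, hgg, sub_sub_sub_comm, sub_eq_zero]
    rw [← sub_eq_zero]
    calc x - g x - (g x - x) = (x + x) - (g x + g x) := by abel
      _ = 0 := by rw [add_self_vec F, add_self_vec F, sub_zero]
  · rw [devL_apply, devL_apply, map_sub, map_sub, alt_comm hA x y]
    congr 1
    rw [← hB x (g y), hgg, alt_comm hA]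

theorem isODev_of_invol {Q : QuadraticForm F V} {g : V ≃ₗ[F] V} (h : g * g = 1)
    (hQ : ∀ u, Q (g u) = Q u) : IsODev Q (devL g) := by
  refine ⟨isDev_of_invol (polar_isAlt Q) h (fun u v => ?_), fun x => ?_⟩
  · simp only [polarBilin_apply_apply, polar, ← map_add, hQ]
  · have := CfsgLib.Forms.quad_add Q x (devL g x)
    rw [← apply_eq_add, hQ] at this
    linear_combination -this + (-polar Q x (devL g x)) * CharTwo.two_eq_zero (R := F)

theorem intertwine_iff (c t s : V ≃ₗ[F] V) :
    (∀ x, c (devL t x) = devL s (c x)) ↔ c * t * c⁻¹ = s := by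
  constructor
  · intro h
    refine LinearEquiv.ext fun y => ?_
    obtain ⟨x, rfl⟩ := c.surjective y
    show c (t (c.symm (c x))) = s (c x)
    rw [LinearEquiv.symm_apply_apply, apply_eq_add t, map_add, h, ← apply_eq_add]
  · rintro rfl x
    show c (t x - x) = c (t (c.symm (c x))) - c x
    rw [LinearEquiv.symm_apply_apply, map_sub]

theorem finrank_range_conj {c : V ≃ₗ[F] V} {N M : V →ₗ[F] V} (h : ∀ x, c (N x) = M (c x)) :
    finrank F (LinearMap.range N) = finrank F (LinearMap.range M) := by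
  have hr : LinearMap.range M = (LinearMap.range N).map c.toLinearMap := by
    ext y
    constructor
    · rintro ⟨x, rfl⟩
      exact ⟨N (c.symm x), ⟨_, rfl⟩, by
        show c (N (c.symm x)) = _
        rw [h, LinearEquiv.apply_symm_apply]⟩
    · rintro ⟨_, ⟨x, rfl⟩, rfl⟩
      exact ⟨c x, (h x).symm⟩
  rw [hr, LinearEquiv.finrank_map_eq]

theorem alt_conj {B : LinearMap.BilinForm F V} {c : V ≃ₗ[F] V} {N M : V →ₗ[F] V}
    (hB : ∀ u v, B (c u) (c v) = B u v) (h : ∀ x, c (N x) = M (c x)) : Alt B N ↔ Alt B M := by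
  constructor
  · intro hN v
    obtain ⟨x, rfl⟩ := c.surjective v
    rw [← h, hB]
    exact hN x
  · intro hM v
    rw [← hB, h]
    exact hM _

/-- The invariant of an element. -/
noncomputable def invB (B : LinearMap.BilinForm F V) (g : V ≃ₗ[F] V) : ℕ × Bool :=
  (finrank F (LinearMap.range (devL g)), @decide (Alt B (devL g)) (Classical.propDecidable _))

theorem invB_eq_iff {B : LinearMap.BilinForm F V} {g h : V ≃ₗ[F] V} :
    invB B g = invB B h ↔ finrank F (LinearMap.range (devL g)) = finrank F (LinearMap.range (devL h)) ∧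
      (Alt B (devL g) ↔ Alt B (devL h)) := by
  rw [invB, invB, Prod.mk.injEq, decide_eq_decide]

theorem invB_pos {B : LinearMap.BilinForm F V} {g : V ≃ₗ[F] V} (h : g ≠ 1) : 0 < (invB B g).1 := by
  show 0 < finrank F (LinearMap.range (devL g))
  rw [Nat.pos_iff_ne_zero]
  intro h0
  refine h (LinearEquiv.ext fun x => ?_)
  have : devL g x ∈ LinearMap.range (devL g) := ⟨x, rfl⟩
  rw [Submodule.finrank_eq_zero.1 h0, Submodule.mem_bot] at this
  rw [apply_eq_add g, this, add_zero]
  rfl

theorem invB_snd_true {B : LinearMap.BilinForm F V} {g : V ≃ₗ[F] V} :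
    (invB B g).2 = true ↔ Alt B (devL g) :=
  @decide_eq_true_iff _ (Classical.propDecidable _)

theorem invB_snd_false {B : LinearMap.BilinForm F V} {g : V ≃ₗ[F] V} :
    (invB B g).2 = false ↔ ¬ Alt B (devL g) :=
  @decide_eq_false_iff_not _ (Classical.propDecidable _)

/-- The involution `1 + N`. -/
def equivOfDev {B : LinearMap.BilinForm F V} {N : V →ₗ[F] V} (hN : IsDev B N) : V ≃ₗ[F] V :=
  LinearEquiv.ofLinear (LinearMap.id + N) (LinearMap.id + N)
    (LinearMap.ext fun x => by
      simp only [LinearMap.comp_apply, LinearMap.add_apply, LinearMap.id_apply, map_add, hN.sq,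
        add_zero]
      rw [add_assoc, add_self_vec F, add_zero])
    (LinearMap.ext fun x => by
      simp only [LinearMap.comp_apply, LinearMap.add_apply, LinearMap.id_apply, map_add, hN.sq,
        add_zero]
      rw [add_assoc, add_self_vec F, add_zero])

theorem devL_equivOfDev {B : LinearMap.BilinForm F V} {N : V →ₗ[F] V} (hN : IsDev B N) :
    devL (equivOfDev hN) = N := LinearMap.ext fun x => by simp [devL, equivOfDev]

theorem equivOfDev_preserves {B : LinearMap.BilinForm F V} (hA : B.IsAlt) {N : V →ₗ[F] V}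
    (hN : IsDev B N) (u v : V) : B (equivOfDev hN u) (equivOfDev hN v) = B u v := by
  show B (u + N u) (v + N v) = _
  simp only [map_add, LinearMap.add_apply, hN.image_isotropic, add_zero]
  rw [hN.symm u v, alt_comm hA v, add_assoc, CharTwo.add_self_eq_zero, add_zero]

theorem equivOfDev_quad {Q : QuadraticForm F V} {N : V →ₗ[F] V} (hN : IsODev Q N) (u : V) :
    Q (equivOfDev hN.toIsDev u) = Q u := by
  show Q (u + N u) = _
  rw [CfsgLib.Forms.quad_add, hN.quad, add_assoc, CharTwo.add_self_eq_zero, add_zero]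

theorem equivOfDev_sq {B : LinearMap.BilinForm F V} {N : V →ₗ[F] V} (hN : IsDev B N) :
    equivOfDev hN * equivOfDev hN = 1 := LinearEquiv.ext fun x =>
  (equivOfDev hN).left_inv x

theorem equivOfDev_ne_one {B : LinearMap.BilinForm F V} {N : V →ₗ[F] V} (hN : IsDev B N)
    (h : 0 < finrank F (LinearMap.range N)) : equivOfDev hN ≠ 1 := by
  intro he
  have : N = 0 := by
    rw [← devL_equivOfDev hN, he]
    exact LinearMap.ext fun x => sub_self x
  rw [this, LinearMap.range_zero, finrank_bot] at h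
  exact absurd h (lt_irrefl 0)

theorem invol_of_order {Γ : Type*} [Group Γ] {g : Γ} (h : orderOf g = 2) : g * g = 1 ∧ g ≠ 1 := by
  refine ⟨?_, fun e => by rw [e, orderOf_one] at h; omega⟩
  rw [← _root_.sq, ← h, pow_orderOf_eq_one]

theorem order_of_invol {Γ : Type*} [Group Γ] {g : Γ} (h : g * g = 1) (h1 : g ≠ 1) : orderOf g = 2 :=
  orderOf_eq_prime (by rw [_root_.sq, h]) h1

/-! Orthogonal groups. -/

section orth

open CfsgLib.Quad

variable {Q : QuadraticForm F V}

/-- The invariant in the orthogonal group. -/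
noncomputable def invO (g : oGroup Q) : ℕ × Bool := invB (polarBilin Q) g.1

theorem isODev_oGroup {g : oGroup Q} (h : g * g = 1) : IsODev Q (devL g.1) :=
  isODev_of_invol (congrArg Subtype.val h) g.2

theorem isConj_oGroup_iff [Finite F] (hQ : (polarBilin Q).Nondegenerate) {a b : oGroup Q}
    (ha : a * a = 1) (hb : b * b = 1) : IsConj a b ↔ invO a = invO b := by
  rw [invO, invO, invB_eq_iff]
  constructor
  · intro h
    obtain ⟨c, hc⟩ := isConj_iff.1 h
    have hi := (intertwine_iff c.1 a.1 b.1).2 (congrArg Subtype.val hc)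
    exact ⟨finrank_range_conj hi, alt_conj (fun u v => by
      simp only [polarBilin_apply_apply, polar, ← map_add, c.2 _]) hi⟩
  · rintro ⟨h1, h2⟩
    obtain ⟨c, hc, hi⟩ := exists_intertwine_quad_of_invariants hQ (isODev_oGroup ha)
      (isODev_oGroup hb) h1 h2
    exact isConj_iff.2 ⟨⟨c, hc⟩, Subtype.ext ((intertwine_iff c a.1 b.1).1 hi)⟩

theorem exists_oGroup_of_dev {N : V →ₗ[F] V} (hN : IsODev Q N)
    (h : 0 < finrank F (LinearMap.range N)) :
    ∃ g : oGroup Q, orderOf g = 2 ∧ devL g.1 = N :=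
  ⟨⟨equivOfDev hN.toIsDev, equivOfDev_quad hN⟩,
    order_of_invol (Subtype.ext (equivOfDev_sq hN.toIsDev))
      (fun e => equivOfDev_ne_one hN.toIsDev h (congrArg Subtype.val e)),
    devL_equivOfDev hN.toIsDev⟩

theorem exists_oGroup_of_family {ι : Type*} [Fintype ι] [DecidableEq ι]
    (hQ : (polarBilin Q).Nondegenerate) {σ : ι → ι} (hσ : Function.Involutive σ) {u : ι → V}
    (hu : ∀ i j, polar Q (u i) (u j) = 0) (hQu : ∀ i, Q (u i) = if σ i = i then 1 else 0)
    (hli : LinearIndependent F u) (hne : 0 < Fintype.card ι) :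
    ∃ g : oGroup Q, orderOf g = 2 ∧ devL g.1 = devOf (polarBilin Q) σ u ∧
      (invO g).1 = Fintype.card ι := by
  have hr := finrank_devOf (polar_isAlt Q) hQ hσ hli
  obtain ⟨g, h1, h2⟩ := exists_oGroup_of_dev (isODev_devOf hσ hu hQu) (by rw [hr]; exact hne)
  refine ⟨g, h1, h2, ?_⟩
  show finrank F (LinearMap.range (devL g.1)) = _
  rw [h2, hr]

theorem exists_oGroup_nonalt {k : ℕ} (hQ : (polarBilin Q).Nondegenerate) {u : Fin k → V}
    (hu : ∀ i j, polar Q (u i) (u j) = 0) (hQu : ∀ i, Q (u i) = 1)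
    (hli : LinearIndependent F u) (hne : 0 < k) :
    ∃ g : oGroup Q, orderOf g = 2 ∧ invO g = (k, false) := by
  obtain ⟨g, h1, h2, h3⟩ := exists_oGroup_of_family hQ (σ := id) (fun _ => rfl) hu
    (fun i => by rw [hQu]; exact (if_pos rfl).symm) hli (by simpa using hne)
  haveI : Nonempty (Fin k) := ⟨⟨0, hne⟩⟩
  refine ⟨g, h1, Prod.ext (h3.trans (Fintype.card_fin k)) ?_⟩
  refine invB_snd_false.2 ?_
  rw [h2]
  exact not_alt_devOf (polar_isAlt Q) hQ hli

theorem exists_oGroup_alt {k : ℕ} (hQ : (polarBilin Q).Nondegenerate) {u : Fin k ⊕ Fin k → V}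
    (hu : ∀ i j, polar Q (u i) (u j) = 0) (hQu : ∀ i, Q (u i) = 0)
    (hli : LinearIndependent F u) (hne : 0 < k) :
    ∃ g : oGroup Q, orderOf g = 2 ∧ invO g = (k + k, true) := by
  have hfix : ∀ i : Fin k ⊕ Fin k, Sum.swap i ≠ i := by rintro (i | i) <;> simp
  obtain ⟨g, h1, h2, h3⟩ := exists_oGroup_of_family hQ (σ := Sum.swap) Sum.swap_swap hu
    (fun i => by rw [hQu, if_neg (hfix i)]) hli (by simp; omega)
  refine ⟨g, h1, Prod.ext (h3.trans (by simp)) ?_⟩
  refine invB_snd_true.2 ?_
  rw [h2]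
  exact alt_devOf Sum.swap_swap hfix

theorem invO_mem [Finite F] (hQ : (polarBilin Q).Nondegenerate) {m : ℕ}
    (hV : finrank F V = 2 * m) {K : ℕ} (hK : m ≤ K ∨ ∀ W : Submodule F V, (∀ w ∈ W, Q w = 0) → finrank F W < m)
    (hKm : m - 1 ≤ K) {g : oGroup Q} (hg : orderOf g = 2) : invO g ∈ classSet m K := by
  obtain ⟨h2, h1⟩ := invol_of_order hg
  have hd := isODev_oGroup h2
  have hle := two_mul_le hQ hd.toIsDev
  have hpos : 0 < (invO g).1 := invB_pos fun e => h1 (Subtype.ext e)
  have hle' : (invO g).1 ≤ m := by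
    show finrank F (LinearMap.range (devL g.1)) ≤ m
    omega
  rw [mem_classSet]
  rcases Bool.eq_false_or_eq_true (invO g).2 with h | h
  · refine Or.inr ⟨h, hpos, ?_, ?_⟩
    · rcases hK with hK | hK
      · omega
      · have halt : Alt (polarBilin Q) (devL g.1) := invB_snd_true.1 h
        have := hK (LinearMap.range (devL g.1)) (by
          rintro _ ⟨x, rfl⟩
          rw [hd.quad]
          exact halt x)
        change finrank F (LinearMap.range (devL g.1)) ≤ K
        omega
    · have halt : Alt (polarBilin Q) (devL g.1) := invB_snd_true.1 h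
      exact even_iff_two_dvd.1 (even_of_alt hQ hd.toIsDev halt)
  · exact Or.inl ⟨h, hpos, hle'⟩

end orth

end CfsgLib.Dye
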