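/-
Involution classes of the symplectic group in characteristic two.
-/
import Cfsg.Agent.Dye.Group
import Mathlib.LinearAlgebra.SymplecticGroup

set_option autoImplicit false
set_option linter.unusedSectionVars false

namespace CfsgLib.Dye

open Module Matrix

variable {F : Type*} [Field F] {l : Type*} [Fintype l] [DecidableEq l]

/-- The standard alternating form. -/
def sB : LinearMap.BilinForm F (l ⊕ l → F) :=
  LinearMap.mk₂ F CfsgLib.Symp.form CfsgLib.Symp.form_add_left CfsgLib.Symp.form_smul_left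
    CfsgLib.Symp.form_add_right CfsgLib.Symp.form_smul_right

theorem sB_apply (u v : l ⊕ l → F) : sB u v = CfsgLib.Symp.form u v := rfl

theorem sB_isAlt : (sB (F := F) (l := l)).IsAlt := fun v => CfsgLib.Symp.form_self v

theorem sB_nondeg : (sB (F := F) (l := l)).Nondegenerate := by
  refine ⟨fun v hv => CfsgLib.Symp.eq_zero_of_form_eq_zero fun u => ?_,
    fun v hv => CfsgLib.Symp.eq_zero_of_form_eq_zero hv⟩
  rw [CfsgLib.Symp.form_swap, show CfsgLib.Symp.form v u = 0 from hv u, neg_zero]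

/-- The action of the symplectic group on column vectors. -/
def spHom : ↥(Matrix.symplecticGroup l F) →* ((l ⊕ l → F) ≃ₗ[F] (l ⊕ l → F)) where
  toFun g :=
    LinearEquiv.ofLinearMap (Matrix.toLin' g.1) (Matrix.toLin' (g⁻¹).1)
      (by rw [← Matrix.toLin'_mul, ← Submonoid.coe_mul, mul_inv_cancel, Submonoid.coe_one,
        Matrix.toLin'_one])
      (by rw [← Matrix.toLin'_mul, ← Submonoid.coe_mul, inv_mul_cancel, Submonoid.coe_one,
        Matrix.toLin'_one])
  map_one' := LinearEquiv.ext fun x => by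
    show (1 : Matrix (l ⊕ l) (l ⊕ l) F) *ᵥ x = x
    rw [one_mulVec]
  map_mul' g h := LinearEquiv.ext fun x => by
    show (g.1 * h.1) *ᵥ x = g.1 *ᵥ (h.1 *ᵥ x)
    rw [mulVec_mulVec]

theorem spHom_apply (g : ↥(Matrix.symplecticGroup l F)) (x : l ⊕ l → F) : spHom g x = g.1 *ᵥ x := rfl

theorem spHom_preserves (g : ↥(Matrix.symplecticGroup l F)) (u v : l ⊕ l → F) :
    sB (spHom g u) (spHom g v) = sB u v := CfsgLib.Symp.mem_iff_form.1 g.2 u v

theorem spHom_injective : Function.Injective (spHom (F := F) (l := l)) := fun g h e =>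
  Subtype.ext (Matrix.toLin'.injective (congrArg LinearEquiv.toLinearMap e))

theorem exists_spHom_eq (c : (l ⊕ l → F) ≃ₗ[F] (l ⊕ l → F)) (h : ∀ u v, sB (c u) (c v) = sB u v) :
    ∃ g, spHom g = c := by
  refine ⟨⟨LinearMap.toMatrix' c.toLinearMap, CfsgLib.Symp.mem_iff_form.2 fun u v => ?_⟩,
    LinearEquiv.ext fun x => ?_⟩
  · rw [LinearMap.toMatrix'_mulVec, LinearMap.toMatrix'_mulVec]
    exact h u v
  · rw [spHom_apply, LinearMap.toMatrix'_mulVec]
    rfl

theorem rank_eq (g : ↥(Matrix.symplecticGroup l F)) :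
    (g.1 - 1).rank = finrank F (LinearMap.range (devL (spHom g))) := by
  have h : (g.1 - 1).mulVecLin = devL (spHom g) := LinearMap.ext fun x => by
    rw [mulVecLin_apply, sub_mulVec, one_mulVec]
    rfl
  rw [Matrix.rank, h]

variable [Finite F] [CharP F 2]

/-- The invariant in the symplectic group. -/
noncomputable def invS (g : ↥(Matrix.symplecticGroup l F)) : ℕ × Bool := invB sB (spHom g)

theorem isDev_sp {g : ↥(Matrix.symplecticGroup l F)} (h : g * g = 1) :
    IsDev sB (devL (spHom g)) :=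
  isDev_of_invol sB_isAlt (by rw [← map_mul, h, map_one]) (spHom_preserves g)

theorem isConj_sp_iff {a b : ↥(Matrix.symplecticGroup l F)} (ha : a * a = 1) (hb : b * b = 1) :
    IsConj a b ↔ invS a = invS b := by
  rw [invS, invS, invB_eq_iff]
  constructor
  · intro h
    obtain ⟨c, hc⟩ := isConj_iff.1 h
    have hi := (intertwine_iff (spHom c) (spHom a) (spHom b)).2 (by
      rw [← map_inv, ← map_mul, ← map_mul, hc])
    exact ⟨finrank_range_conj hi, alt_conj (spHom_preserves c) hi⟩
  · rintro ⟨h1, h2⟩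
    obtain ⟨c, hc, hi⟩ := exists_intertwine_of_invariants sB_isAlt sB_nondeg (isDev_sp ha)
      (isDev_sp hb) h1 h2
    obtain ⟨g, rfl⟩ := exists_spHom_eq c hc
    refine isConj_iff.2 ⟨g, spHom_injective ?_⟩
    rw [map_mul, map_mul, map_inv]
    exact (intertwine_iff _ _ _).1 hi

theorem invS_mem {m : ℕ} {g : ↥(Matrix.symplecticGroup (Fin m) F)} (hg : orderOf g = 2) :
    invS g ∈ classSet m m := by
  obtain ⟨h2, h1⟩ := invol_of_order hg
  have hd := isDev_sp h2
  have hle := two_mul_le sB_nondeg hd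
  rw [finrank_fintype_fun_eq_card, Fintype.card_sum, Fintype.card_fin] at hle
  have hle' : (invS g).1 ≤ m := by
    show finrank F (LinearMap.range (devL (spHom g))) ≤ m
    omega
  have hpos : 0 < (invS g).1 := invB_pos fun e => h1 (spHom_injective (by rw [e, map_one]))
  rw [mem_classSet]
  rcases Bool.eq_false_or_eq_true (invS g).2 with h | h
  · exact Or.inr ⟨h, hpos, hle', even_iff_two_dvd.1 (even_of_alt sB_nondeg hd (invB_snd_true.1 h))⟩
  · exact Or.inl ⟨h, hpos, hle'⟩

theorem exists_sp_of_family {m : ℕ} {ι : Type*} [Fintype ι] [DecidableEq ι] {σ : ι → ι}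
    (hσ : Function.Involutive σ) (u : ι → Fin m) (hu : Function.Injective u) (hne : 0 < Fintype.card ι) :
    ∃ g : ↥(Matrix.symplecticGroup (Fin m) F), orderOf g = 2 ∧
      devL (spHom g) = devOf sB σ (fun i => Pi.single (Sum.inl (u i)) (1 : F)) ∧
      (invS g).1 = Fintype.card ι ∧
      LinearIndependent F (fun i => (Pi.single (Sum.inl (u i)) (1 : F) : Fin m ⊕ Fin m → F)) := by
  have hli : LinearIndependent F (fun i => (Pi.single (Sum.inl (u i)) (1 : F) : Fin m ⊕ Fin m → F)) := by
    have := (Pi.basisFun F (Fin m ⊕ Fin m)).linearIndependent.comp (fun i => Sum.inl (u i))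
      (Sum.inl_injective.comp hu)
    convert this using 1
    funext i
    simp [Pi.basisFun_apply]
  have hd : IsDev sB (devOf sB σ (fun i => (Pi.single (Sum.inl (u i)) (1 : F) : Fin m ⊕ Fin m → F))) :=
    isDev_devOf sB_isAlt hσ fun i j => by
      rw [sB_apply, CfsgLib.Symp.form_single_inl, Pi.single_eq_of_ne (by simp)]
      simp
  have hr := finrank_devOf sB_isAlt sB_nondeg hσ hli
  obtain ⟨g, hg⟩ := exists_spHom_eq (equivOfDev hd) (equivOfDev_preserves sB_isAlt hd)
  refine ⟨g, order_of_invol (spHom_injective ?_) (fun e => ?_), by rw [hg, devL_equivOfDev], ?_, hli⟩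
  · rw [map_mul, map_one, hg, equivOfDev_sq]
  · refine equivOfDev_ne_one hd (by rw [hr]; exact hne) ?_
    rw [← hg, e, map_one]
  · show finrank F (LinearMap.range (devL (spHom g))) = _
    rw [hg, devL_equivOfDev, hr]

theorem exists_sp {m : ℕ} {p : ℕ × Bool} (hp : p ∈ classSet m m) :
    ∃ g : ↥(Matrix.symplecticGroup (Fin m) F), orderOf g = 2 ∧ invS g = p := by
  obtain ⟨k, b⟩ := p
  rcases (mem_classSet _).1 hp with ⟨rfl, hk, hkm⟩ | ⟨rfl, hk, hkm, r, rfl⟩
  · obtain ⟨g, h1, h2, h3, hli⟩ := exists_sp_of_family (F := F) (m := m) (σ := id) (fun _ => rfl)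
      (Fin.castLE hkm) (Fin.castLE_injective hkm) (by simpa using hk)
    haveI : Nonempty (Fin k) := ⟨⟨0, hk⟩⟩
    refine ⟨g, h1, Prod.ext (h3.trans (Fintype.card_fin k)) (invB_snd_false.2 ?_)⟩
    rw [h2]
    exact not_alt_devOf sB_isAlt sB_nondeg hli
  · have hfix : ∀ i : Fin r ⊕ Fin r, Sum.swap i ≠ i := by rintro (i | i) <;> simp
    have hrm : r + r ≤ m := by simp only at hkm; omega
    obtain ⟨g, h1, h2, h3, hli⟩ := exists_sp_of_family (F := F) (m := m) (σ := Sum.swap)
      Sum.swap_swap (fun i => Fin.castLE hrm (finSumFinEquiv i))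
      ((Fin.castLE_injective hrm).comp finSumFinEquiv.injective) (by simp at hk ⊢; omega)
    refine ⟨g, h1, Prod.ext (h3.trans (by simp; omega)) (invB_snd_true.2 ?_)⟩
    rw [h2]
    exact alt_devOf Sum.swap_swap hfix

end CfsgLib.Dye
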