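/-
Centralisers of involutions in symplectic groups, characteristic two.
-/
import Cfsg.Agent.Dye.Symp
import Cfsg.Agent.Dye.OrthCount
import Cfsg.Agent.Classical.SymplecticBlocks

set_option autoImplicit false
set_option linter.unusedSectionVars false

namespace CfsgLib.Dye

open Module Matrix

/-- The ordered pairs. -/
abbrev LtPair (ι : Type*) [Fintype ι] : Type _ :=
  {p : ι × ι // Fintype.equivFin ι p.1 < Fintype.equivFin ι p.2}

theorem card_ltPair (ι : Type*) [Fintype ι] :
    2 * Nat.card (LtPair ι) + Fintype.card ι = Fintype.card ι * Fintype.card ι := by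
  classical
  let f := Fintype.equivFin ι
  let e : (LtPair ι ⊕ LtPair ι) ⊕ ι ≃ ι × ι :=
    Equiv.ofBijective (Sum.elim (Sum.elim (fun p => p.1) (fun p => (p.1.2, p.1.1))) fun i => (i, i)) (by
      constructor
      · rintro ((⟨⟨a, b⟩, hab⟩ | ⟨⟨a, b⟩, hab⟩) | a) ((⟨⟨c, d⟩, hcd⟩ | ⟨⟨c, d⟩, hcd⟩) | c) h <;>
          simp only [Sum.elim_inl, Sum.elim_inr, Prod.mk.injEq] at h ⊢ <;>
          first
          | (obtain ⟨rfl, rfl⟩ := h; first | rfl | (exfalso; order))
          | (obtain ⟨rfl, -⟩ := h; rfl)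
      · rintro ⟨a, b⟩
        rcases lt_trichotomy (f a) (f b) with h | h | h
        · exact ⟨.inl (.inl ⟨(a, b), h⟩), rfl⟩
        · exact ⟨.inr a, by simp [f.injective h]⟩
        · exact ⟨.inl (.inr ⟨(b, a), h⟩), rfl⟩)
  have := Nat.card_congr e
  rw [Nat.card_sum, Nat.card_sum, Nat.card_prod, Nat.card_eq_fintype_card (α := ι)] at this
  omega

section count

variable {F V : Type*} [Field F] [Finite F] [CharP F 2] [AddCommGroup V] [Module F V]
  [FiniteDimensional F V] {ι : Type*} [Fintype ι] [DecidableEq ι]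
  {B : LinearMap.BilinForm F V} (hA : B.IsAlt) {N : V →ₗ[F] V} {σ : ι → ι}

/-- The matrices preserving the pairing of `σ`. -/
abbrev RedMat (F : Type*) [Field F] (σ : ι → ι) : Type _ :=
  {A : Matrix ι ι F // ∀ i j, ∑ k, A i k * A j (σ k) = if σ i = j then 1 else 0}

theorem isPre_of_gram (hN : IsDev B N) (hσ : Function.Involutive σ)
    (hr : finrank F (LinearMap.range N) = Fintype.card ι) {e : ι → V}
    (hg : ∀ i j, B (e i) (N (e j)) = if σ i = j then 1 else 0) : IsPre B N σ e := by
  refine ⟨hg, ?_⟩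
  have hli : LinearIndependent F (fun i => N (e i)) := by
    rw [Fintype.linearIndependent_iff]
    intro c hc i
    have := congrArg (fun w => B (e (σ i)) w) hc
    simpa [hg, hσ i] using this
  refine (Submodule.eq_of_le_of_finrank_eq (Submodule.span_le.2 ?_) ?_).symm.le
  · rintro _ ⟨i, rfl⟩; exact ⟨e i, rfl⟩
  · rw [finrank_span_eq_card hli, hr]

/-- The isotropic lifts of a family. -/
abbrev Sol (B : LinearMap.BilinForm F V) (N : V →ₗ[F] V) (f : ι → V) : Type _ :=
  {k : ι → LinearMap.ker N // ∀ i j, B (f i + k i) (f j + k j) = 0}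

include hA in
theorem card_sol (hN : IsDev B N) (hσ : Function.Involutive σ) {f : ι → V}
    (hg : ∀ i j, B (f i) (N (f j)) = if σ i = j then 1 else 0) :
    Nat.card (Sol B N f) * Nat.card F ^ Nat.card (LtPair ι) =
      Nat.card F ^ (Fintype.card ι * finrank F (LinearMap.ker N)) := by
  classical
  haveI := Fintype.ofFinite F
  haveI : Finite V := Module.finite_of_finite F
  let fe := Fintype.equivFin ι
  let Γ : (ι → LinearMap.ker N) → (LtPair ι → F) := fun k p =>
    B (f p.1.1 + k p.1.1) (f p.1.2 + k p.1.2)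
  let M : (LtPair ι → F) → ι → ι → F := fun a i l =>
    if h : fe i < fe (σ l) then a ⟨(i, σ l), h⟩ else 0
  let sec : (LtPair ι → F) → (ι → LinearMap.ker N) := fun a i =>
    ⟨∑ l, M a i l • N (f l), LinearMap.mem_ker.2 (by simp [map_sum, hN.sq])⟩
  have hs := alt_comm hA
  have hΓ : ∀ (k : ι → LinearMap.ker N) (a : LtPair ι → F), Γ (k + sec a) = Γ k + a := by
    intro k a
    funext p
    obtain ⟨⟨i, j⟩, hij⟩ := p
    have hku : ∀ (x : LinearMap.ker N) (l : ι), B (x : V) (N (f l)) = 0 := fun x l => by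
      rw [hN.symm, LinearMap.mem_ker.1 x.2, map_zero]
    have hku' : ∀ (x : LinearMap.ker N) (l : ι), B (N (f l)) (x : V) = 0 := fun x l => by
      rw [hs, hku]
    show B (f i + ((k i : V) + (sec a i : V))) (f j + ((k j : V) + (sec a j : V))) =
      B (f i + (k i : V)) (f j + (k j : V)) + a ⟨(i, j), hij⟩
    simp only [sec, map_add, map_sum, map_smul, LinearMap.add_apply, LinearMap.coe_sum,
      Finset.sum_apply, LinearMap.smul_apply, smul_eq_mul, hg, hs (N (f _)) (f j), hku, hku',
      hN.image_isotropic, mul_zero, Finset.sum_const_zero, add_zero, mul_ite, mul_one,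
      Finset.sum_ite_eq, Finset.mem_univ, if_true, M, hσ i, hσ j]
    rw [dif_pos hij, dif_neg (not_lt.2 hij.le)]
    ring
  have hsym : ∀ k : ι → LinearMap.ker N, Γ k = 0 → ∀ i j, B (f i + k i) (f j + k j) = 0 := by
    intro k hk i j
    rcases lt_trichotomy (fe i) (fe j) with h | h | h
    · exact congrFun hk ⟨(i, j), h⟩
    · obtain rfl := fe.injective h; exact hA _
    · rw [hs]; exact congrFun hk ⟨(j, i), h⟩
  let e : (ι → LinearMap.ker N) ≃ Sol B N f × (LtPair ι → F) :=
    { toFun := fun k => (⟨k + sec (Γ k), hsym _ (by rw [hΓ]; funext p; simp [CharTwo.add_self_eq_zero])⟩, Γ k)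
      invFun := fun x => x.1.1 + sec x.2
      left_inv := fun k => by
        funext i
        show k i + sec (Γ k) i + sec (Γ k) i = k i
        refine Subtype.ext ?_
        show (k i : V) + (sec (Γ k) i : V) + (sec (Γ k) i : V) = k i
        rw [add_assoc, add_self_vec F, add_zero]
      right_inv := fun x => by
        have h0 : Γ x.1.1 = 0 := funext fun p => x.1.2 _ _
        have h : Γ (x.1.1 + sec x.2) = x.2 := by rw [hΓ, h0, zero_add]
        refine Prod.ext (Subtype.ext ?_) h
        show x.1.1 + sec x.2 + sec (Γ (x.1.1 + sec x.2)) = x.1.1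
        rw [h]
        funext i
        refine Subtype.ext ?_
        show (x.1.1 i : V) + (sec x.2 i : V) + (sec x.2 i : V) = x.1.1 i
        rw [add_assoc, add_self_vec F, add_zero] }
  have := Nat.card_congr e
  rw [Nat.card_prod, Nat.card_fun, Nat.card_fun, Nat.card_eq_fintype_card (α := ι)] at this
  rw [← this, Module.natCard_eq_pow_finrank (K := F) (V := LinearMap.ker N), ← pow_mul, mul_comm]

include hA in
theorem card_std (hN : IsDev B N) (hσ : Function.Involutive σ) {e₀ : ι → V} (he₀ : IsStd B N σ e₀) :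
    Nat.card {e : ι → V // IsStd B N σ e} * Nat.card F ^ Nat.card (LtPair ι) =
      Nat.card (RedMat F σ) * Nat.card F ^ (Fintype.card ι * finrank F (LinearMap.ker N)) := by
  classical
  haveI : Finite V := Module.finite_of_finite F
  haveI := Fintype.ofFinite (RedMat F σ)
  have hr := he₀.toIsPre.finrank_range hσ
  have hcoef : ∀ (e : ι → V) i, N (e i) = ∑ j, B (e i) (N (e₀ (σ j))) • N (e₀ j) := fun e i =>
    he₀.toIsPre.apply_eq hN hσ (e i)
  have hgram : ∀ (A : ι → ι → F) (i j : ι),
      B (∑ k, A i k • e₀ k) (N (∑ k, A j k • e₀ k)) = ∑ k, A i k * A j (σ k) := by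
    intro A i j
    simp [map_sum, he₀.gram, LinearMap.coe_sum, Finset.sum_apply, Finset.mul_sum, mul_ite]
    rw [Finset.sum_comm]
    simp [mul_comm]
  let p : {e : ι → V // IsStd B N σ e} → RedMat F σ := fun e =>
    ⟨fun i j => B (e.1 i) (N (e₀ (σ j))), fun i j => by
      have h := e.2.gram i j
      rw [hcoef e.1 j, map_sum] at h
      simp only [map_smul, smul_eq_mul] at h
      rw [← h, ← Equiv.sum_comp hσ.toPerm]
      refine Finset.sum_congr rfl fun k _ => ?_
      simp [hσ k, mul_comm]⟩
  have hfib : ∀ A, Nat.card {e // p e = A} * Nat.card F ^ Nat.card (LtPair ι) =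
      Nat.card F ^ (Fintype.card ι * finrank F (LinearMap.ker N)) := by
    intro A
    let f : ι → V := fun i => ∑ k, A.1 i k • e₀ k
    have hgf : ∀ i j, B (f i) (N (f j)) = if σ i = j then 1 else 0 := fun i j =>
      (hgram A.1 i j).trans (A.2 i j)
    have hmem : ∀ e : {e // p e = A}, ∀ i, e.1.1 i + f i ∈ LinearMap.ker N := fun e i => by
      have h : ∀ j, B (e.1.1 i) (N (e₀ (σ j))) = A.1 i j := fun j =>
        congrFun (congrFun (congrArg Subtype.val e.2) i) j
      rw [LinearMap.mem_ker, map_add, hcoef e.1.1 i]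
      simp only [h, f, map_sum, map_smul]
      exact add_self_vec F _
    have hadd : ∀ x y : V, y + (x + y) = x := fun x y => by
      rw [add_comm x y, ← add_assoc, add_self_vec F, zero_add]
    let e : {e // p e = A} ≃ Sol B N f :=
      { toFun := fun e => ⟨fun i => ⟨e.1.1 i + f i, hmem e i⟩, fun i j => by
          show B (f i + (e.1.1 i + f i)) (f j + (e.1.1 j + f j)) = 0
          rw [hadd, hadd]; exact e.1.2.zero i j⟩
        invFun := fun k => ⟨⟨fun i => f i + k.1 i,
          ⟨(isPre_of_gram hN hσ hr hgf).shift hN _ fun i => LinearMap.mem_ker.1 (k.1 i).2, k.2⟩⟩,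
          Subtype.ext (funext fun i => funext fun j => by
            show B (f i + (k.1 i : V)) (N (e₀ (σ j))) = A.1 i j
            rw [map_add, LinearMap.add_apply, hN.symm (k.1 i : V), LinearMap.mem_ker.1 (k.1 i).2,
              map_zero, add_zero]
            simp [f, map_sum, LinearMap.coe_sum, Finset.sum_apply, he₀.gram, hσ.injective.eq_iff])⟩
        left_inv := fun e => Subtype.ext (Subtype.ext (funext fun i => hadd _ _))
        right_inv := fun k => Subtype.ext (funext fun i => Subtype.ext (by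
          show f i + (k.1 i : V) + f i = k.1 i
          rw [add_comm (f i), add_assoc, add_self_vec F, add_zero])) }
    rw [Nat.card_congr e, card_sol hA hN hσ hgf]
  rw [Nat.card_congr (Equiv.sigmaFiberEquiv p).symm, Nat.card_sigma, Finset.sum_mul,
    Finset.sum_congr rfl fun A _ => hfib A, Finset.sum_const, smul_eq_mul, Finset.card_univ,
    ← Nat.card_eq_fintype_card]

end count

section symp

open CfsgLib.Symp

variable {F : Type*} [Field F] [Finite F] [CharP F 2] {m : ℕ}

theorem smul_eq_spHom {l : Type*} [Fintype l] [DecidableEq l] (g : ↥(Matrix.symplecticGroup l F))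
    (x : l ⊕ l → F) : g • x = spHom g x := rfl

theorem congrSp_apply {a b : Type*} [Fintype a] [DecidableEq a] [Fintype b] [DecidableEq b]
    (e : a ≃ b) (g : ↥(Matrix.symplecticGroup a F)) (x : b ⊕ b → F) :
    (congrSp e g) • x = (g • (x ∘ Equiv.sumCongr e e)) ∘ (Equiv.sumCongr e e).symm := by
  show (g.1.submatrix (Equiv.sumCongr e e).symm (Equiv.sumCongr e e).symm) *ᵥ x = _
  rw [Matrix.submatrix_mulVec_equiv, Equiv.symm_symm]
  rfl

/-- The pointwise stabiliser of a hyperbolic block. -/
theorem card_fix_block {a b : Type*} [Fintype a] [DecidableEq a] [Fintype b] [DecidableEq b] :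
    Nat.card {g : ↥(Matrix.symplecticGroup (a ⊕ b) F) //
        ∀ x : a ⊕ a → F, g • glue x (0 : b ⊕ b → F) = glue x 0} =
      Nat.card ↥(Matrix.symplecticGroup b F) := by
  symm
  refine Nat.card_eq_of_bijective (fun y => ⟨blockHom (1, y), fun x => by
    rw [blockHom_smul, one_smul, resA_glue, resB_glue, smul_zero]⟩) ⟨fun y y' h => ?_, fun g => ?_⟩
  · exact (Prod.mk.inj (blockHom_injective (congrArg Subtype.val h))).2
  · obtain ⟨⟨p, y⟩, hpy⟩ := mem_range_blockHom_iff.mpr (fun x => by rw [g.2 x, resB_glue] :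
      ∀ x, resB (g.1 • glue x (0 : b ⊕ b → F)) = 0)
    refine ⟨y, Subtype.ext ?_⟩
    have hp : p = 1 := symp_ext fun x => by
      have h := congrArg resA (g.2 x)
      rw [← hpy, blockHom_smul, resA_glue, resA_glue] at h
      rw [one_smul]
      exact h
    rw [← hpy, hp]

theorem card_fix_family {ι : Type*} [Fintype ι] [DecidableEq ι] {σ : ι → ι}
    (hσ : Function.Involutive σ) {N : (Fin m ⊕ Fin m → F) →ₗ[F] (Fin m ⊕ Fin m → F)}
    (hN : IsDev sB N) {e₀ : ι → Fin m ⊕ Fin m → F} (he₀ : IsStd sB N σ e₀) (hs : Fintype.card ι ≤ m) :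
    Nat.card {g : ↥(Matrix.symplecticGroup (Fin m) F) //
        ∀ a, spHom g (Sum.elim e₀ (fun i => N (e₀ i)) a) = Sum.elim e₀ (fun i => N (e₀ i)) a} =
      Nat.card ↥(Matrix.symplecticGroup (Fin (m - Fintype.card ι)) F) := by
  classical
  let eq : ι ⊕ Fin (m - Fintype.card ι) ≃ Fin m := Fintype.equivFinOfCardEq (by simp; omega)
  let E := Equiv.sumCongr eq eq
  let z : ι ⊕ ι → (Fin m ⊕ Fin m → F) :=
    Sum.elim (fun i => Pi.single (Sum.inl (eq (Sum.inl i))) 1)
      (fun j => Pi.single (Sum.inr (eq (Sum.inl (σ j)))) 1)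
  have hli : LinearIndependent F z := by
    have h := (Pi.basisFun F (Fin m ⊕ Fin m)).linearIndependent.comp
      (Sum.map (fun i => eq (Sum.inl i)) (fun j => eq (Sum.inl (σ j))))
      ((eq.injective.comp Sum.inl_injective).sumMap
        ((eq.injective.comp Sum.inl_injective).comp hσ.injective))
    convert h using 1
    funext a
    rcases a with i | j <;> simp [z, Pi.basisFun_apply]
  let q := Fintype.equivFin (ι ⊕ ι)
  obtain ⟨c, hc, hcv⟩ := (CfsgLib.Forms.ofAlt sB sB_isAlt).exists_map_family
    (CfsgLib.Forms.ofAlt_nondeg sB_nondeg sB_isAlt) (z ∘ q.symm)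
    (Sum.elim e₀ (fun i => N (e₀ i)) ∘ q.symm) (hli.comp _ q.symm.injective)
    ((he₀.family_linearIndependent sB_isAlt hN hσ).comp _ q.symm.injective)
    (fun a b => by
      show sB _ _ = sB _ _
      rw [Function.comp_apply, Function.comp_apply, Function.comp_apply, Function.comp_apply,
        he₀.gram_family sB_isAlt hN]
      rcases q.symm a with i | i <;> rcases q.symm b with j | j <;>
        simp [z, sB_apply, form_single_inl, form_single_inr, Pi.single_apply, CharTwo.neg_eq,
          hσ.eq_iff, eq_comm])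
  obtain ⟨c, rfl⟩ := exists_spHom_eq c hc
  have hcz : ∀ a, c • z a = Sum.elim e₀ (fun i => N (e₀ i)) a := fun a => by
    simpa [smul_eq_spHom] using hcv (q a)
  have h1 : Nat.card {g : ↥(Matrix.symplecticGroup (Fin m) F) //
        ∀ a, spHom g (Sum.elim e₀ (fun i => N (e₀ i)) a) = Sum.elim e₀ (fun i => N (e₀ i)) a} =
      Nat.card {g : ↥(Matrix.symplecticGroup (Fin m) F) // ∀ a, g • z a = z a} := by
    refine Nat.card_congr ((MulAut.conj c⁻¹).toEquiv.subtypeEquiv fun g => forall_congr' fun a => ?_)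
    simp only [← smul_eq_spHom, ← hcz]
    simp [mul_smul, inv_smul_eq_iff]
  have h2 : Nat.card {g : ↥(Matrix.symplecticGroup (ι ⊕ Fin (m - Fintype.card ι)) F) //
        ∀ x : ι ⊕ ι → F, g • glue x (0 : Fin (m - Fintype.card ι) ⊕ Fin (m - Fintype.card ι) → F) = glue x 0} =
      Nat.card {g : ↥(Matrix.symplecticGroup (Fin m) F) // ∀ a, g • z a = z a} := by
    refine Nat.card_congr ((congrSp eq).toEquiv.subtypeEquiv fun g => ?_)
    have hz : ∀ a, z a ∘ E = glue (Pi.single (Sum.map id σ a) 1) 0 := by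
      rintro (i | j) <;> funext k <;> rcases k with (k | k) | (k | k) <;>
        simp [z, E, glue, Pi.single_apply]
    show _ ↔ ∀ a, congrSp eq g • z a = z a
    constructor
    · intro h a
      rw [congrSp_apply, hz, h, ← hz]
      funext k
      simp [E, Function.comp_apply]
    · intro h x
      have hb : ∀ b : ι ⊕ ι, g • glue (Pi.single b (1 : F)) (0 : Fin (m - Fintype.card ι) ⊕ _ → F) =
          glue (Pi.single b 1) 0 := fun b => by
        have h' := h (Sum.map id σ b)
        rw [congrSp_apply, hz] at h'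
        have hb' : Sum.map id σ (Sum.map id σ b) = b := by rcases b with i | i <;> simp [hσ i]
        rw [hb'] at h'
        funext k
        have h'' := congrFun h' (E k)
        simp only [Function.comp_apply, E, Equiv.symm_apply_apply] at h''
        rw [h'', show z (Sum.map id σ b) (Equiv.sumCongr eq eq k) = (z (Sum.map id σ b) ∘ E) k from rfl,
          hz, hb']
      let G : (ι ⊕ ι → F) →ₗ[F]
          ((ι ⊕ Fin (m - Fintype.card ι)) ⊕ (ι ⊕ Fin (m - Fintype.card ι)) → F) :=
        { toFun := fun x => glue x 0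
          map_add' := fun x y => by funext k; rcases k with (k | k) | (k | k) <;> simp [glue]
          map_smul' := fun r x => by funext k; rcases k with (k | k) | (k | k) <;> simp [glue] }
      have hGx : spHom g (G x) = G x := by
        have : (spHom g).toLinearMap ∘ₗ G = G := by
          refine (Pi.basisFun F (ι ⊕ ι)).ext fun b => ?_
          rw [Pi.basisFun_apply]
          exact hb b
        exact LinearMap.congr_fun this x
      exact hGx
  rw [h1, ← h2, card_fix_block]

set_option maxHeartbeats 1000000 in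
theorem card_centralizer {ι : Type*} [Fintype ι] [DecidableEq ι] {σ : ι → ι}
    (hσ : Function.Involutive σ) (t : ↥(Matrix.symplecticGroup (Fin m) F)) (ht : t * t = 1)
    {e₀ : ι → Fin m ⊕ Fin m → F} (he₀ : IsStd sB (devL (spHom t)) σ e₀) :
    Nat.card ↥(Subgroup.centralizer ({t} : Set ↥(Matrix.symplecticGroup (Fin m) F))) *
        Nat.card F ^ Nat.card (LtPair ι) =
      Nat.card (RedMat F σ) * Nat.card F ^ (Fintype.card ι * (2 * m - Fintype.card ι)) *
        Nat.card ↥(Matrix.symplecticGroup (Fin (m - Fintype.card ι)) F) := by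
  classical
  set N := devL (spHom t) with hNdef
  have hN : IsDev sB N := isDev_sp ht
  have hle := two_mul_le sB_nondeg hN
  have hr := he₀.toIsPre.finrank_range hσ
  rw [finrank_fintype_fun_eq_card, Fintype.card_sum, Fintype.card_fin, hr] at hle
  have hker : finrank F (LinearMap.ker N) = 2 * m - Fintype.card ι := by
    have h := LinearMap.finrank_range_add_finrank_ker N
    rw [hr, finrank_fintype_fun_eq_card, Fintype.card_sum, Fintype.card_fin] at h
    omega
  have hcom : ∀ g : ↥(Matrix.symplecticGroup (Fin m) F),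
      g ∈ Subgroup.centralizer ({t} : Set ↥(Matrix.symplecticGroup (Fin m) F)) ↔
        ∀ x, spHom g (N x) = N (spHom g x) := fun g => by
    rw [Subgroup.mem_centralizer_singleton_iff, hNdef, intertwine_iff, ← map_inv, ← map_mul,
      ← map_mul, spHom_injective.eq_iff, mul_inv_eq_iff_eq_mul]
  let C := Subgroup.centralizer ({t} : Set ↥(Matrix.symplecticGroup (Fin m) F))
  have hmap : ∀ g : C, IsStd sB N σ (fun i => spHom g.1 (e₀ i)) := fun g => by
    have hc := (hcom g.1).1 g.2
    refine ⟨⟨fun i j => ?_, ?_⟩, fun i j => ?_⟩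
    · rw [← hc, spHom_preserves]; exact he₀.gram i j
    · rintro _ ⟨x, rfl⟩
      obtain ⟨y, rfl⟩ := (spHom g.1).surjective x
      rw [← hc, he₀.toIsPre.apply_eq hN hσ, map_sum]
      refine Submodule.sum_mem _ fun i _ => ?_
      rw [map_smul, hc]
      exact Submodule.smul_mem _ _ (Submodule.subset_span ⟨i, rfl⟩)
    · rw [spHom_preserves]; exact he₀.zero i j
  let p : C → {e : ι → Fin m ⊕ Fin m → F // IsStd sB N σ e} := fun g => ⟨_, hmap g⟩
  have hfib : ∀ e, Nat.card {g // p g = e} =
      Nat.card ↥(Matrix.symplecticGroup (Fin (m - Fintype.card ι)) F) := by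
    intro e
    rw [← card_fix_family hσ hN he₀ (by omega)]
    obtain ⟨c, hc, hi⟩ := exists_intertwine sB_isAlt sB_nondeg hN hN he₀ e.2 hσ
    -- an element of the centraliser taking the base family to `e`
    let q := Fintype.equivFin (ι ⊕ ι)
    obtain ⟨g0, hg0, hg0v⟩ := (CfsgLib.Forms.ofAlt sB sB_isAlt).exists_map_family
      (CfsgLib.Forms.ofAlt_nondeg sB_nondeg sB_isAlt)
      (Sum.elim e₀ (fun i => N (e₀ i)) ∘ q.symm) (Sum.elim e.1 (fun i => N (e.1 i)) ∘ q.symm)
      ((he₀.family_linearIndependent sB_isAlt hN hσ).comp _ q.symm.injective)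
      ((e.2.family_linearIndependent sB_isAlt hN hσ).comp _ q.symm.injective)
      (fun a b => by
        show sB _ _ = sB _ _
        rw [Function.comp_apply, Function.comp_apply, Function.comp_apply, Function.comp_apply,
          he₀.gram_family sB_isAlt hN, e.2.gram_family sB_isAlt hN])
    have hfam : ∀ a, g0 (Sum.elim e₀ (fun i => N (e₀ i)) a) = Sum.elim e.1 (fun i => N (e.1 i)) a :=
      fun a => by simpa using hg0v (q a)
    obtain ⟨g0, rfl⟩ := exists_spHom_eq g0 hg0
    have hcomm : ∀ g : ↥(Matrix.symplecticGroup (Fin m) F),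
        (∀ a, spHom g (Sum.elim e₀ (fun i => N (e₀ i)) a) = Sum.elim e.1 (fun i => N (e.1 i)) a) →
          g ∈ C := fun g hg => by
      refine (hcom g).2 fun x => ?_
      rw [he₀.toIsPre.apply_eq hN hσ, e.2.toIsPre.apply_eq hN hσ, map_sum]
      refine Finset.sum_congr rfl fun i _ => ?_
      have h1 := hg (.inr i)
      have h2 := hg (.inr (σ i))
      simp only [Sum.elim_inr] at h1 h2
      rw [map_smul, h1, ← spHom_preserves g x, h2]
    have hfix : ∀ h : ↥(Matrix.symplecticGroup (Fin m) F),
        (∀ a, spHom h (Sum.elim e₀ (fun i => N (e₀ i)) a) = Sum.elim e₀ (fun i => N (e₀ i)) a) →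
        ∀ a, spHom (g0 * h) (Sum.elim e₀ (fun i => N (e₀ i)) a) = Sum.elim e.1 (fun i => N (e.1 i)) a :=
      fun h hh a => by rw [map_mul, LinearEquiv.mul_apply, hh, hfam]
    symm
    refine Nat.card_eq_of_bijective (fun h => ⟨⟨g0 * h.1, hcomm _ (hfix h.1 h.2)⟩,
      Subtype.ext (funext fun i => hfix h.1 h.2 (.inl i))⟩) ⟨fun h h' hh => ?_, fun g => ?_⟩
    · exact Subtype.ext (mul_left_cancel (congrArg (fun x => x.1.1) hh))
    · refine ⟨⟨g0⁻¹ * g.1.1, fun a => ?_⟩, Subtype.ext (Subtype.ext (mul_inv_cancel_left _ _))⟩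
      have hg : spHom g.1.1 (Sum.elim e₀ (fun i => N (e₀ i)) a) = Sum.elim e.1 (fun i => N (e.1 i)) a := by
        have h1 : ∀ i, spHom g.1.1 (e₀ i) = e.1 i := fun i => congrFun (congrArg Subtype.val g.2) i
        rcases a with i | i
        · exact h1 i
        · show spHom g.1.1 (N (e₀ i)) = N (e.1 i)
          rw [(hcom g.1.1).1 g.1.2, h1]
      rw [map_mul, LinearEquiv.mul_apply, hg, map_inv, ← hfam]
      exact LinearEquiv.symm_apply_apply _ _
  haveI := Fintype.ofFinite {e : ι → Fin m ⊕ Fin m → F // IsStd sB N σ e}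
  rw [Nat.card_congr (Equiv.sigmaFiberEquiv p).symm, Nat.card_sigma,
    Finset.sum_congr rfl fun e _ => hfib e, Finset.sum_const, smul_eq_mul, Finset.card_univ,
    ← Nat.card_eq_fintype_card, mul_right_comm, card_std sB_isAlt hN hσ he₀, hker]

end symp

end CfsgLib.Dye
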