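/-
Closed formulas for centraliser orders.
-/
import Cfsg.Agent.Dye.Cent

set_option autoImplicit false
set_option linter.unusedSectionVars false

namespace CfsgLib.Dye

open Module Matrix

variable {F : Type*} [Field F] [Finite F] [CharP F 2]

theorem card_redMat_id (n : ℕ) : Nat.card (RedMat F (id : Fin n → Fin n)) = Nat.card (OrthMat F n) := by
  refine Nat.card_congr (Equiv.subtypeEquivRight fun A => ⟨fun h => ?_, fun h i j => ?_⟩)
  · ext i j
    rw [Matrix.mul_apply, Matrix.one_apply]
    exact h i j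
  · have h' := congrFun (congrFun h i) j
    rw [Matrix.mul_apply, Matrix.one_apply] at h'
    exact h'

theorem J_apply_swap {l : Type*} [DecidableEq l] (i j : l ⊕ l) :
    (Matrix.J l F) i j = if Sum.swap i = j then 1 else 0 := by
  rcases i with i | i <;> rcases j with j | j <;> simp [Matrix.J, Matrix.one_apply, CharTwo.neg_eq]

theorem card_redMat_swap (r : ℕ) :
    Nat.card (RedMat F (Sum.swap : Fin r ⊕ Fin r → Fin r ⊕ Fin r)) =
      Nat.card ↥(Matrix.symplecticGroup (Fin r) F) := by
  refine Nat.card_congr (Equiv.subtypeEquivRight fun A => ?_)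
  rw [SymplecticGroup.mem_iff]
  have key : ∀ i j, (A * Matrix.J (Fin r) F * Aᵀ) i j = ∑ k, A i k * A j (Sum.swap k) := by
    intro i j
    rw [Matrix.mul_assoc, Matrix.mul_apply]
    refine Finset.sum_congr rfl fun k _ => ?_
    rw [Matrix.mul_apply]
    simp [J_apply_swap]
  constructor
  · intro h
    ext i j
    rw [key, J_apply_swap]
    exact h i j
  · intro h i j
    rw [← key, h, J_apply_swap]

theorem card_Sp_fin (k : ℕ) : Nat.card ↥(Matrix.symplecticGroup (Fin k) F) =
    Nat.card F ^ (k ^ 2) * ∏ i : Fin k, (Nat.card F ^ (2 * ((i : ℕ) + 1)) - 1) := by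
  rw [CfsgLib.Symp.card_Sp, ← Fin.prod_univ_eq_prod_range]

variable {m : ℕ}

/-- Type `b_s` with `s = 2 r + 1`, and type `c_s` with `s = 2 r + 2`. -/
theorem card_cent_nonalt (t : ↥(Matrix.symplecticGroup (Fin m) F)) (ht : t * t = 1)
    (hna : ¬ Alt sB (devL (spHom t))) :
    ∃ s d P : ℕ, s = finrank F (LinearMap.range (devL (spHom t))) ∧ 1 ≤ s ∧ m = s + d ∧
      2 * P + s = s * s ∧
      Nat.card ↥(Subgroup.centralizer ({t} : Set ↥(Matrix.symplecticGroup (Fin m) F))) *
          Nat.card F ^ P =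
        Nat.card (OrthMat F s) * Nat.card F ^ (s * (2 * m - s)) *
          Nat.card ↥(Matrix.symplecticGroup (Fin d) F) := by
  have hN := isDev_sp ht
  obtain ⟨n, e, he⟩ := exists_pre_nonalt sB_nondeg hN hna
  obtain ⟨f, hf⟩ := he.exists_std sB_isAlt hN (fun _ => rfl)
  have hr := he.finrank_range (fun _ => rfl)
  have hle := two_mul_le sB_nondeg hN
  rw [finrank_fintype_fun_eq_card, Fintype.card_sum, Fintype.card_fin, hr, Fintype.card_fin] at hle
  have h := card_centralizer (fun _ => rfl) t ht hf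
  rw [card_redMat_id, Fintype.card_fin] at h
  refine ⟨n + 1, m - (n + 1), Nat.card (LtPair (Fin (n + 1))), by rw [hr, Fintype.card_fin],
    by omega, by omega, ?_, h⟩
  simpa using card_ltPair (Fin (n + 1))

/-- Type `a_s` with `s = 2 r`. -/
theorem card_cent_alt (t : ↥(Matrix.symplecticGroup (Fin m) F)) (ht : t * t = 1)
    (ha : Alt sB (devL (spHom t))) :
    ∃ r d P : ℕ, 2 * r = finrank F (LinearMap.range (devL (spHom t))) ∧ m = 2 * r + d ∧
      2 * P + 2 * r = 2 * r * (2 * r) ∧
      Nat.card ↥(Subgroup.centralizer ({t} : Set ↥(Matrix.symplecticGroup (Fin m) F))) *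
          Nat.card F ^ P =
        Nat.card ↥(Matrix.symplecticGroup (Fin r) F) * Nat.card F ^ (2 * r * (2 * m - 2 * r)) *
          Nat.card ↥(Matrix.symplecticGroup (Fin d) F) := by
  have hN := isDev_sp ht
  obtain ⟨r, e, he⟩ := exists_pre_alt sB_nondeg hN ha
  obtain ⟨f, hf⟩ := he.exists_std sB_isAlt hN Sum.swap_swap
  have hr := he.finrank_range Sum.swap_swap
  have hle := two_mul_le sB_nondeg hN
  rw [finrank_fintype_fun_eq_card, Fintype.card_sum, Fintype.card_fin, hr, Fintype.card_sum,
    Fintype.card_fin] at hle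
  have h := card_centralizer Sum.swap_swap t ht hf
  rw [card_redMat_swap, Fintype.card_sum, Fintype.card_fin, ← two_mul] at h
  refine ⟨r, m - 2 * r, Nat.card (LtPair (Fin r ⊕ Fin r)),
    by rw [hr, Fintype.card_sum, Fintype.card_fin, two_mul], by omega, ?_, h⟩
  have := card_ltPair (Fin r ⊕ Fin r)
  rw [Fintype.card_sum, Fintype.card_fin, ← two_mul] at this
  exact this

theorem sp_alt_iff (t : ↥(Matrix.symplecticGroup (Fin m) F)) :
    Alt sB (devL (spHom t)) ↔ ∀ v : Fin m ⊕ Fin m → F,
      CfsgLib.Symp.form v (t.1 *ᵥ v) = 0 := by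
  refine forall_congr' fun v => ?_
  rw [devL_apply, map_sub, show sB v v = 0 from sB_isAlt v, sub_zero]
  rfl

end CfsgLib.Dye
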