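/-
Involution classes of the orthogonal groups in characteristic two, matrix form.
-/
import Cfsg.Agent.Dye.Group
import Cfsg.Agent.Quad.Matrices
import Cfsg.Agent.Quad.Concrete
import Cfsg.Agent.ParityRank.Split

set_option autoImplicit false
set_option linter.unusedSectionVars false

namespace CfsgLib.Dye

open Module QuadraticMap Matrix CfsgLib.Quad

variable {F : Type*} [Field F] [Finite F] [CharP F 2] {ι : Type} [Fintype ι] [DecidableEq ι]

/-- The invariant of a matrix isometry. -/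
noncomputable def invQ (Q : QuadraticForm F (ι → F)) (g : Cfsg.isometryGroup F ⇑Q) : ℕ × Bool :=
  invO (isoGroupEquiv Q g)

theorem orderOf_iso (Q : QuadraticForm F (ι → F)) (g : Cfsg.isometryGroup F ⇑Q) :
    orderOf (isoGroupEquiv Q g) = orderOf g := MulEquiv.orderOf_eq _ _

theorem isConj_equiv {G H : Type*} [Group G] [Group H] (e : G ≃* H) (a b : G) :
    IsConj (e a) (e b) ↔ IsConj a b := by
  refine ⟨fun h => ?_, fun h => MonoidHom.map_isConj e.toMonoidHom h⟩
  simpa using MonoidHom.map_isConj e.symm.toMonoidHom h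

theorem isConj_iso_iff (Q : QuadraticForm F (ι → F)) (hQ : (polarBilin Q).Nondegenerate)
    {a b : Cfsg.isometryGroup F ⇑Q} (ha : orderOf a = 2) (hb : orderOf b = 2) :
    IsConj a b ↔ invQ Q a = invQ Q b := by
  rw [← isConj_equiv (isoGroupEquiv Q)]
  exact isConj_oGroup_iff hQ (invol_of_order ((orderOf_iso Q a).trans ha)).1
    (invol_of_order ((orderOf_iso Q b).trans hb)).1

theorem rank_iso (Q : QuadraticForm F (ι → F)) (g : Cfsg.isometryGroup F ⇑Q) :
    (((g : GL ι F) : Matrix ι ι F) - 1).rank = (invQ Q g).1 := by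
  have h : (((g : GL ι F) : Matrix ι ι F) - 1).mulVecLin = devL (isoGroupEquiv Q g).1 := by
    refine LinearMap.ext fun x => ?_
    rw [mulVecLin_apply, sub_mulVec, one_mulVec]
    rfl
  rw [Matrix.rank, h]
  rfl

theorem alt_iso (Q : QuadraticForm F (ι → F)) {g : Cfsg.isometryGroup F ⇑Q} (hg : orderOf g = 2) :
    (invQ Q g).2 = true ↔ ∀ v : ι → F, Q (v + ((g : GL ι F) : Matrix ι ι F) *ᵥ v) = 0 := by
  have hd := isODev_oGroup (invol_of_order ((orderOf_iso Q g).trans hg)).1
  refine invB_snd_true.trans (forall_congr' fun v => ?_)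
  rw [polarBilin_apply_apply, ← hd.quad v, devL_apply]
  have : v + ((g : GL ι F) : Matrix ι ι F) *ᵥ v = (isoGroupEquiv Q g).1 v - v := by
    rw [isoGroupEquiv_apply]
    funext i
    simp [CharTwo.sub_eq_add, add_comm]
  rw [this]

theorem exists_iso {m K : ℕ} (Q : QuadraticForm F (ι → F)) (hQ : (polarBilin Q).Nondegenerate)
    (u : Fin m → ι → F) (hu : ∀ i j, polar Q (u i) (u j) = 0) (hQu : ∀ i, Q (u i) = 1)
    (huli : LinearIndependent F u) (w : Fin K → ι → F) (hw : ∀ i j, polar Q (w i) (w j) = 0)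
    (hQw : ∀ i, Q (w i) = 0) (hwli : LinearIndependent F w) {p : ℕ × Bool} (hp : p ∈ classSet m K) :
    ∃ g : Cfsg.isometryGroup F ⇑Q, orderOf g = 2 ∧ invQ Q g = p := by
  obtain ⟨k, b⟩ := p
  suffices h : ∃ g : oGroup Q, orderOf g = 2 ∧ invO g = (k, b) by
    obtain ⟨g, h1, h2⟩ := h
    refine ⟨(isoGroupEquiv Q).symm g, (MulEquiv.orderOf_eq _ _).trans h1, ?_⟩
    rw [invQ, MulEquiv.apply_symm_apply, h2]
  rcases (mem_classSet _).1 hp with ⟨rfl, hk, hkm⟩ | ⟨rfl, hk, hkm, r, rfl⟩
  · exact exists_oGroup_nonalt hQ (u := u ∘ Fin.castLE hkm) (fun i j => hu _ _) (fun i => hQu _)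
      (huli.comp _ (Fin.castLE_injective hkm)) hk
  · have hr : r + r ≤ K := by simp only at hkm; omega
    obtain ⟨g, h1, h2⟩ := exists_oGroup_alt hQ (u := w ∘ Fin.castLE hr ∘ finSumFinEquiv)
      (fun i j => hw _ _) (fun i => hQw _)
      (hwli.comp _ ((Fin.castLE_injective hr).comp finSumFinEquiv.injective)) (by simp at hk; omega)
    exact ⟨g, h1, by rw [h2, two_mul]⟩

theorem invQ_mem {m K : ℕ} (Q : QuadraticForm F (ι → F)) (hQ : (polarBilin Q).Nondegenerate)
    (hcard : Fintype.card ι = 2 * m)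
    (hK : m ≤ K ∨ ∀ W : Submodule F (ι → F), (∀ w ∈ W, Q w = 0) → finrank F W < m) (hKm : m - 1 ≤ K)
    {g : Cfsg.isometryGroup F ⇑Q} (hg : orderOf g = 2) : invQ Q g ∈ classSet m K :=
  invO_mem hQ (by rw [finrank_fintype_fun_eq_card, hcard]) hK hKm ((orderOf_iso Q g).trans hg)

theorem card_orth {m K : ℕ} {Q₀ : (ι → F) → F} (Q : QuadraticForm F (ι → F)) (e : ⇑Q = Q₀)
    (hQ : (polarBilin Q).Nondegenerate) (hcard : Fintype.card ι = 2 * m)
    (hK : m ≤ K ∨ ∀ W : Submodule F (ι → F), (∀ w ∈ W, Q w = 0) → finrank F W < m) (hKm : m - 1 ≤ K)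
    (u : Fin m → ι → F) (hu : ∀ i j, polar Q (u i) (u j) = 0) (hQu : ∀ i, Q (u i) = 1)
    (huli : LinearIndependent F u) (w : Fin K → ι → F) (hw : ∀ i j, polar Q (w i) (w j) = 0)
    (hQw : ∀ i, Q (w i) = 0) (hwli : LinearIndependent F w) :
    Nat.card {C : ConjClasses ↥(Cfsg.isometryGroup F Q₀) //
      ∃ g : ↥(Cfsg.isometryGroup F Q₀), ConjClasses.mk g = C ∧ orderOf g = 2} = m + K / 2 := by
  subst e
  exact (card_classes (invQ Q) (classSet m K) (fun g h hg hh => isConj_iso_iff Q hQ hg hh)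
    (fun g hg => invQ_mem Q hQ hcard hK hKm hg)
    (fun p hp => exists_iso Q hQ u hu hQu huli w hw hQw hwli hp)).trans (card_classSet m K)

theorem elim_add {α β : Type*} (a a' : α → F) (b b' : β → F) :
    Sum.elim a b + Sum.elim a' b' = Sum.elim (a + a') (b + b') := by
  funext k; rcases k with k | k <;> rfl

/-- The linear equivalence of an invertible matrix. -/
noncomputable def glEquiv (g : GL ι F) : (ι → F) ≃ₗ[F] (ι → F) :=
  LinearMap.GeneralLinearGroup.generalLinearEquiv F _ (Matrix.GeneralLinearGroup.toLin g)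

theorem glEquiv_apply (g : GL ι F) (x : ι → F) : glEquiv g x = (g : Matrix ι ι F) *ᵥ x := rfl

theorem glEquiv_mul (g h : GL ι F) : glEquiv (g * h) = glEquiv g * glEquiv h := by
  simp [glEquiv]

theorem glEquiv_inv (g : GL ι F) : glEquiv g⁻¹ = (glEquiv g)⁻¹ := by
  simp [glEquiv]

theorem isConj_iff_symp {Q₀ : (ι → F) → F} (Q : QuadraticForm F (ι → F)) (e : ⇑Q = Q₀)
    (hQ : (polarBilin Q).Nondegenerate) (t s : ↥(Cfsg.isometryGroup F Q₀)) (ht : orderOf t = 2)
    (hs : orderOf s = 2) :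
    IsConj t s ↔ ∃ g ∈ Cfsg.preserving (Units.coeHom (Matrix ι ι F))
      (fun u v => Q₀ (u + v) - Q₀ u - Q₀ v), g * (t : GL ι F) * g⁻¹ = (s : GL ι F) := by
  subst e
  constructor
  · intro h
    obtain ⟨g, hg⟩ := isConj_iff.1 h
    refine ⟨g.1, fun u v => ?_, congrArg Subtype.val hg⟩
    show Q (g.1.1 *ᵥ u + g.1.1 *ᵥ v) - Q (g.1.1 *ᵥ u) - Q (g.1.1 *ᵥ v) = _
    rw [← Matrix.mulVec_add]
    simp only [← isoGroupEquiv_apply, (isoGroupEquiv Q g).2 _]
  · rintro ⟨g, hg, hgt⟩
    rw [isConj_iso_iff Q hQ ht hs, invQ, invQ, invO, invO, invB_eq_iff]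
    have hi := (intertwine_iff (glEquiv g) (isoGroupEquiv Q t).1 (isoGroupEquiv Q s).1).2 (by
      show glEquiv g * glEquiv t.1 * (glEquiv g)⁻¹ = glEquiv s.1
      rw [← glEquiv_inv, ← glEquiv_mul, ← glEquiv_mul, hgt])
    exact ⟨finrank_range_conj hi, alt_conj (fun u v => hg u v) hi⟩

/-- The vectors `x_i + y_i`. -/
def plusU (m : ℕ) (i : Fin m) : Fin m ⊕ Fin m → F :=
  Sum.elim (Pi.single i 1) (Pi.single i 1)

/-- The vectors `x_i`. -/
def plusW (m : ℕ) (i : Fin m) : Fin m ⊕ Fin m → F := Sum.elim (Pi.single i 1) 0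

theorem plus_diag (m : ℕ) (a : Fin m → F) :
    plusQ (F := F) m (Sum.elim a a) = (∑ i, a i) * ∑ i, a i := by
  rw [plusQ_coe, CharTwo.sum_mul_self]
  simp [Cfsg.quadFormPlus]

theorem plus_half (m : ℕ) (a : Fin m → F) : plusQ (F := F) m (Sum.elim a 0) = 0 := by
  rw [plusQ_coe]
  simp [Cfsg.quadFormPlus]

theorem plusU_spec (m : ℕ) : (∀ i j, polar (plusQ (F := F) m) (plusU m i) (plusU m j) = 0) ∧
    (∀ i, plusQ (F := F) m (plusU m i) = 1) ∧ LinearIndependent F (plusU (F := F) m) := by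
  refine ⟨fun i j => ?_, fun i => ?_, ?_⟩
  · rw [polar, plusU, plusU, elim_add, plus_diag, plus_diag, plus_diag]
    simp [Finset.sum_add_distrib, CharTwo.sub_eq_add, CharTwo.add_self_eq_zero]
  · rw [plusU, plus_diag]; simp
  · rw [Fintype.linearIndependent_iff]
    intro c hc i
    simpa [plusU, Finset.sum_apply, Pi.single_apply] using congrFun hc (.inl i)

theorem plusW_spec (m : ℕ) : (∀ i j, polar (plusQ (F := F) m) (plusW m i) (plusW m j) = 0) ∧
    (∀ i, plusQ (F := F) m (plusW m i) = 0) ∧ LinearIndependent F (plusW (F := F) m) := by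
  refine ⟨fun i j => ?_, fun i => plus_half m _, ?_⟩
  · rw [polar, plusW, plusW, elim_add, add_zero, plus_half, plus_half, plus_half]
    simp
  · rw [Fintype.linearIndependent_iff]
    intro c hc i
    simpa [plusW, Finset.sum_apply, Pi.single_apply] using congrFun hc (.inl i)

/-- The vectors `x_i + y_i` and `z₁`. -/
def minusU (m : ℕ) (i : Fin (m + 1)) : (Fin m ⊕ Fin m) ⊕ Fin 2 → F :=
  Fin.lastCases (Sum.elim 0 ![1, 0]) (fun j => Sum.elim (plusU m j) 0) i

/-- The vectors `x_i`. -/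
def minusW (m : ℕ) (i : Fin m) : (Fin m ⊕ Fin m) ⊕ Fin 2 → F := Sum.elim (plusW m i) 0

theorem minus_elim (m : ℕ) (a b : F) (v : Fin m ⊕ Fin m → F) (z : Fin 2 → F) :
    minusQ (F := F) m a b (Sum.elim v z) =
      plusQ m v + (z 0 * z 0 + a * z 0 * z 1 + b * (z 1 * z 1)) := by
  rw [minusQ_coe, plusQ_coe]
  simp [Cfsg.quadFormMinus, Cfsg.quadFormPlus, _root_.sq]

theorem minusU_spec (m : ℕ) (a b : F) :
    (∀ i j, polar (minusQ (F := F) m a b) (minusU m i) (minusU m j) = 0) ∧
    (∀ i, minusQ (F := F) m a b (minusU m i) = 1) ∧ LinearIndependent F (minusU (F := F) m) := by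
  obtain ⟨h1, h2, h3⟩ := plusU_spec (F := F) m
  refine ⟨fun i j => ?_, fun i => ?_, ?_⟩
  · cases i using Fin.lastCases with
    | last =>
      cases j using Fin.lastCases with
      | last => rw [polar_self, two_nsmul, CharTwo.add_self_eq_zero]
      | cast j =>
        simp only [polar, minusU, Fin.lastCases_last, Fin.lastCases_castSucc, elim_add,
          minus_elim, zero_add, add_zero]
        simp
    | cast i =>
      cases j using Fin.lastCases with
      | last =>
        simp only [polar, minusU, Fin.lastCases_last, Fin.lastCases_castSucc, elim_add,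
          minus_elim, zero_add, add_zero]
        simp
      | cast j =>
        have := h1 i j
        simp only [polar] at this ⊢
        simp only [minusU, Fin.lastCases_castSucc, elim_add, minus_elim, add_zero]
        simpa using this
  · cases i using Fin.lastCases with
    | last => simp [minusU, minus_elim]
    | cast i => simp [minusU, minus_elim, h2]
  · rw [Fintype.linearIndependent_iff]
    intro c hc i
    rw [Fin.sum_univ_castSucc] at hc
    cases i using Fin.lastCases with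
    | last => simpa [minusU, Finset.sum_apply] using congrFun hc (.inr 0)
    | cast i =>
      simpa [minusU, plusU, Finset.sum_apply, Pi.single_apply] using congrFun hc (.inl (.inl i))

theorem minusW_spec (m : ℕ) (a b : F) :
    (∀ i j, polar (minusQ (F := F) m a b) (minusW m i) (minusW m j) = 0) ∧
    (∀ i, minusQ (F := F) m a b (minusW m i) = 0) ∧ LinearIndependent F (minusW (F := F) m) := by
  obtain ⟨h1, h2, h3⟩ := plusW_spec (F := F) m
  refine ⟨fun i j => ?_, fun i => by simp [minusW, minus_elim, h2], ?_⟩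
  · have := h1 i j
    simp only [polar] at this ⊢
    simp only [minusW, elim_add, minus_elim, add_zero]
    simpa using this
  · rw [Fintype.linearIndependent_iff]
    intro c hc i
    simpa [minusW, plusW, Finset.sum_apply, Pi.single_apply] using congrFun hc (.inl (.inl i))

end CfsgLib.Dye
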