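/-
Counting involution classes in the commutator subgroup of an orthogonal group, characteristic two.
-/
import Cfsg.Agent.Dye.Omega

set_option autoImplicit false
set_option linter.unusedSectionVars false

namespace CfsgLib.Dye

open Module QuadraticMap CfsgLib.Quad

/-- The invariants of involutions inside the commutator subgroup. -/
def evenSet (m K : ℕ) : Finset (ℕ × Bool) :=
  ((Finset.Ioc 0 m).filter (2 ∣ ·)) ×ˢ {false} ∪ ((Finset.Ioc 0 K).filter (2 ∣ ·)) ×ˢ {true}

theorem mem_evenSet {m K : ℕ} (p : ℕ × Bool) : p ∈ evenSet m K ↔ p ∈ classSet m K ∧ 2 ∣ p.1 := by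
  obtain ⟨k, b⟩ := p
  cases b <;> simp [evenSet, classSet, and_assoc]

theorem card_evenSet (m K : ℕ) : (evenSet m K).card = m / 2 + K / 2 := by
  rw [evenSet, Finset.card_union_of_disjoint, Finset.card_product, Finset.card_product,
    Nat.Ioc_filter_dvd_card_eq_div, Nat.Ioc_filter_dvd_card_eq_div]
  · simp
  · rw [Finset.disjoint_left]
    rintro ⟨k, b⟩ h1 h2
    simp only [Finset.mem_product, Finset.mem_singleton] at h1 h2
    rw [h1.2] at h2
    exact Bool.noConfusion h2.2

theorem isConj_sub_iff {G : Type*} [Group G] (H : Subgroup G) (a b : H) :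
    IsConj a b ↔ ∃ h ∈ H, h * (a : G) * h⁻¹ = b := by
  rw [isConj_iff]
  exact ⟨fun ⟨c, hc⟩ => ⟨c, c.2, congrArg Subtype.val hc⟩,
    fun ⟨h, hh, he⟩ => ⟨⟨h, hh⟩, Subtype.ext he⟩⟩

section count

variable {F V : Type*} [Field F] [Finite F] [CharP F 2] [AddCommGroup V] [Module F V]
  [FiniteDimensional F V] {Q : QuadraticForm F V} (hQ : (polarBilin Q).Nondegenerate)
  (hgen : reflGroup Q = ⊤) {m K : ℕ} (hV : finrank F V = 2 * m)
  (hK : m ≤ K ∨ ∀ W : Submodule F V, (∀ w ∈ W, Q w = 0) → finrank F W < m) (hKm : m - 1 ≤ K)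
  (hsurj : ∀ p ∈ classSet m K, ∃ g : oGroup Q, orderOf g = 2 ∧ invO g = p)

include hQ hgen hV hK hKm in
theorem invO_mem_even {g : oGroup Q} (hg : orderOf g = 2) (hgc : g ∈ commutator (oGroup Q)) :
    invO g ∈ evenSet m K :=
  (mem_evenSet _).2 ⟨invO_mem hQ hV hK hKm hg, even_iff_two_dvd.1 ((mem_comm_iff hQ hgen g).1 hgc)⟩

include hQ hgen hsurj in
theorem exists_comm_of_even {p : ℕ × Bool} (hp : p ∈ evenSet m K) :
    ∃ g : oGroup Q, g ∈ commutator (oGroup Q) ∧ orderOf g = 2 ∧ invO g = p := by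
  rw [mem_evenSet] at hp
  obtain ⟨g, h1, h2⟩ := hsurj p hp.1
  refine ⟨g, (mem_comm_iff hQ hgen g).2 ?_, h1, h2⟩
  rw [show finrank F (LinearMap.range (devL g.1)) = p.1 from congrArg Prod.fst h2]
  exact even_iff_two_dvd.2 hp.2

include hQ hgen hV hK hKm hsurj in
/-- No class splits. -/
theorem card_comm_nonsplit (hns : (m, true) ∉ evenSet m K) :
    Nat.card {C : ConjClasses ↥(commutator (oGroup Q)) //
      ∃ g : ↥(commutator (oGroup Q)), ConjClasses.mk g = C ∧ orderOf g = 2} = m / 2 + K / 2 := by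
  refine (card_classes (fun g => invO g.1) (evenSet m K) (fun g h hg hh => ?_) (fun g hg => ?_)
    (fun p hp => ?_)).trans (card_evenSet m K)
  · rw [← Subgroup.orderOf_coe] at hg hh
    have hg' := (invol_of_order hg).1
    rw [isConj_sub_iff]
    constructor
    · rintro ⟨c, _, hc⟩
      exact (isConj_oGroup_iff hQ hg' (invol_of_order hh).1).1 (isConj_iff.2 ⟨c, hc⟩)
    · intro he
      exact conj_comm_of_conj hQ hgen hV hg'
        (fun e => hns (e ▸ invO_mem_even hQ hgen hV hK hKm hg g.2))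
        ((isConj_oGroup_iff hQ hg' (invol_of_order hh).1).2 he)
  · rw [← Subgroup.orderOf_coe] at hg
    exact invO_mem_even hQ hgen hV hK hKm hg g.2
  · obtain ⟨g, h1, h2, h3⟩ := exists_comm_of_even hQ hgen hsurj hp
    exact ⟨⟨g, h1⟩, by rw [← Subgroup.orderOf_coe]; exact h2, h3⟩

include hQ hgen hV hK hKm hsurj in
/-- The classes with `rank = m` and alternating split. -/
theorem card_comm_split (hs : (m, true) ∈ evenSet m K) :
    Nat.card {C : ConjClasses ↥(commutator (oGroup Q)) //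
      ∃ g : ↥(commutator (oGroup Q)), ConjClasses.mk g = C ∧ orderOf g = 2} = m / 2 + K / 2 + 1 := by
  classical
  obtain ⟨t, htc, hto, hti⟩ := exists_comm_of_even hQ hgen hsurj hs
  have ht := (invol_of_order hto).1
  have hm : Even m := even_iff_two_dvd.2 ((mem_evenSet _).1 hs).2
  set H := commutator (oGroup Q) with hH
  let inv : H → (ℕ × Bool) × Bool := fun g => (invO g.1, decide (∃ h ∈ H, h * t * h⁻¹ = g.1))
  let S : Finset ((ℕ × Bool) × Bool) :=
    evenSet m K ×ˢ {false} ∪ ({((m, true), true)} : Finset ((ℕ × Bool) × Bool))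
  have hsame : ∀ g : H, orderOf g = 2 → (∃ h ∈ H, h * t * h⁻¹ = g.1) → invO g.1 = (m, true) := by
    intro g hg ⟨c, _, hc⟩
    rw [← Subgroup.orderOf_coe] at hg
    rw [← hti]
    exact ((isConj_oGroup_iff hQ ht (invol_of_order hg).1).1 (isConj_iff.2 ⟨c, hc⟩)).symm
  have hd : ∃ d, Q d ≠ 0 := exists_aniso hQ (by
    have h0 : 0 < (m, true).1 := ((mem_classSet _).1 ((mem_evenSet _).1 hs).1).elim
      (fun h => h.2.1) fun h => h.2.1
    rw [hV]; simp only at h0; omega)
  obtain ⟨d, hd⟩ := hd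
  refine (card_classes inv S (fun g h hg hh => ?_) (fun g hg => ?_) (fun p hp => ?_)).trans ?_
  · have hg' := hg
    have hh' := hh
    rw [← Subgroup.orderOf_coe] at hg' hh'
    rw [isConj_sub_iff]
    constructor
    · rintro ⟨c, hc1, hc⟩
      refine Prod.ext ((isConj_oGroup_iff hQ (invol_of_order hg').1 (invol_of_order hh').1).1
        (isConj_iff.2 ⟨c, hc⟩)) ?_
      refine Bool.decide_congr ⟨fun ⟨k, hk1, hk⟩ => ⟨c * k, mul_mem hc1 hk1, ?_⟩,
        fun ⟨k, hk1, hk⟩ => ⟨c⁻¹ * k, mul_mem (inv_mem hc1) hk1, ?_⟩⟩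
      · rw [← hc, ← hk]; group
      · rw [← hc] at hk
        calc c⁻¹ * k * t * (c⁻¹ * k)⁻¹ = c⁻¹ * (k * t * k⁻¹) * c := by group
          _ = g.1 := by rw [hk]; group
    · intro he
      obtain ⟨he1, he2⟩ := Prod.mk.inj he
      have hconj := (isConj_oGroup_iff hQ (invol_of_order hg').1 (invol_of_order hh').1).2 he1
      by_cases hi : invO g.1 = (m, true)
      · obtain ⟨a, ha⟩ := isConj_iff.1 ((isConj_oGroup_iff hQ ht (invol_of_order hg').1).2 (hti.trans hi.symm))
        obtain ⟨b, hb⟩ := isConj_iff.1 ((isConj_oGroup_iff hQ ht (invol_of_order hh').1).2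
          (hti.trans (hi.symm.trans he1)))
        refine ⟨b * a⁻¹, ?_, by rw [← ha, ← hb]; group⟩
        rw [decide_eq_decide] at he2
        by_cases hb' : b ∈ H
        · obtain ⟨a', ha1, ha2⟩ := he2.2 ⟨b, hb', hb⟩
          have hcen : a'⁻¹ * a ∈ H := centraliser_le hQ hgen hV hm ht hti (by
            calc a'⁻¹ * a * t * (a'⁻¹ * a)⁻¹ = a'⁻¹ * (a * t * a⁻¹) * a' := by group
              _ = a'⁻¹ * (a' * t * a'⁻¹) * a' := by rw [ha, ha2]
              _ = t := by group)
          have : a ∈ H := by simpa using mul_mem ha1 hcen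
          exact mul_mem hb' (inv_mem this)
        · refine mul_mem_comm hQ hgen hb' fun ha' => ?_
          rw [Subgroup.inv_mem_iff] at ha'
          obtain ⟨b', hb1, hb2⟩ := he2.1 ⟨a, ha', ha⟩
          have hcen : b'⁻¹ * b ∈ H := centraliser_le hQ hgen hV hm ht hti (by
            calc b'⁻¹ * b * t * (b'⁻¹ * b)⁻¹ = b'⁻¹ * (b * t * b⁻¹) * b' := by group
              _ = b'⁻¹ * (b' * t * b'⁻¹) * b' := by rw [hb, hb2]
              _ = t := by group)
          exact hb' (by simpa using mul_mem hb1 hcen)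
      · exact conj_comm_of_conj hQ hgen hV (invol_of_order hg').1 hi hconj
  · have hg' := hg
    rw [← Subgroup.orderOf_coe] at hg'
    have hm1 := invO_mem_even hQ hgen hV hK hKm hg' g.2
    by_cases hb : ∃ h ∈ H, h * t * h⁻¹ = g.1
    · exact Finset.mem_union_right _ (Finset.mem_singleton.2
        (Prod.ext (hsame g hg hb) (decide_eq_true hb)))
    · exact Finset.mem_union_left _ (Finset.mem_product.2
        ⟨hm1, Finset.mem_singleton.2 (decide_eq_false hb)⟩)
  · obtain ⟨p, b⟩ := p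
    rcases Finset.mem_union.1 hp with hp | hp
    · simp only [Finset.mem_product, Finset.mem_singleton] at hp
      obtain ⟨hp1, rfl⟩ := hp
      obtain ⟨g, h1, h2, h3⟩ := exists_comm_of_even hQ hgen hsurj hp1
      by_cases hpm : p = (m, true)
      · have hr : refl Q d ∉ H := refl_not_mem hQ hgen hd
        have hmem : refl Q d * t * (refl Q d)⁻¹ ∈ H :=
          (inferInstance : (commutator (oGroup Q)).Normal).conj_mem t htc (refl Q d)
        have ho : orderOf (refl Q d * t * (refl Q d)⁻¹) = 2 := by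
          rw [← hto]
          exact orderOf_injective (MulAut.conj (refl Q d)).toMonoidHom
            (MulAut.conj (refl Q d)).injective t
        refine ⟨⟨_, hmem⟩, by rw [← Subgroup.orderOf_coe]; exact ho, Prod.ext ?_ ?_⟩
        · rw [hpm, ← hti]
          exact ((isConj_oGroup_iff hQ ht (invol_of_order ho).1).1 (isConj_iff.2 ⟨_, rfl⟩)).symm
        · refine decide_eq_false fun ⟨k, hk1, hk⟩ => hr ?_
          have hcen : (refl Q d)⁻¹ * k ∈ H := centraliser_le hQ hgen hV hm ht hti (by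
            calc (refl Q d)⁻¹ * k * t * ((refl Q d)⁻¹ * k)⁻¹
                = (refl Q d)⁻¹ * (k * t * k⁻¹) * refl Q d := by group
              _ = t := by rw [hk]; group)
          simpa using mul_mem hk1 (inv_mem hcen)
      · refine ⟨⟨g, h1⟩, by rw [← Subgroup.orderOf_coe]; exact h2, Prod.ext h3 ?_⟩
        refine decide_eq_false fun hh => hpm ?_
        rw [← h3]
        exact hsame ⟨g, h1⟩ (by rw [← Subgroup.orderOf_coe]; exact h2) hh
    · rw [Finset.mem_singleton, Prod.mk.injEq] at hp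
      obtain ⟨rfl, rfl⟩ := hp
      exact ⟨⟨t, htc⟩, by rw [← Subgroup.orderOf_coe]; exact hto,
        Prod.ext hti (decide_eq_true ⟨1, one_mem _, by simp⟩)⟩
  · rw [Finset.card_union_of_disjoint (by simp [Finset.disjoint_left]), Finset.card_product,
      card_evenSet]
    simp

end count

section transfer

variable {F : Type*} [Field F] {ι : Type} [Fintype ι] [DecidableEq ι]

theorem card_classes_congr {G G' : Type*} [Group G] [Group G'] (e : G ≃* G') :
    Nat.card {C : ConjClasses G // ∃ g : G, ConjClasses.mk g = C ∧ orderOf g = 2} =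
      Nat.card {C : ConjClasses G' // ∃ g : G', ConjClasses.mk g = C ∧ orderOf g = 2} := by
  refine Nat.card_eq_of_bijective (fun C => ⟨ConjClasses.map e.toMonoidHom C.1, by
    obtain ⟨g, hg, ho⟩ := C.2
    exact ⟨e g, by rw [← hg]; rfl, by rw [MulEquiv.orderOf_eq]; exact ho⟩⟩) ⟨fun A B h => ?_, fun C => ?_⟩
  · obtain ⟨a, ha, -⟩ := A.2
    obtain ⟨b, hb, -⟩ := B.2
    have h' : ConjClasses.map e.toMonoidHom A.1 = ConjClasses.map e.toMonoidHom B.1 :=
      congrArg Subtype.val h
    rw [← ha, ← hb] at h'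
    refine Subtype.ext ?_
    rw [← ha, ← hb, ConjClasses.mk_eq_mk_iff_isConj]
    exact (isConj_equiv e a b).1 (ConjClasses.mk_eq_mk_iff_isConj.1 h')
  · obtain ⟨g, hg, ho⟩ := C.2
    refine ⟨⟨ConjClasses.mk (e.symm g), e.symm g, rfl, by rw [MulEquiv.orderOf_eq]; exact ho⟩,
      Subtype.ext ?_⟩
    show ConjClasses.mk (e (e.symm g)) = C.1
    rw [MulEquiv.apply_symm_apply]; exact hg

/-- The commutator subgroups correspond. -/
noncomputable def omegaEquiv (Q : QuadraticForm F (ι → F)) :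
    ↥(Cfsg.Omega F ⇑Q) ≃* ↥(commutator (oGroup Q)) :=
  ((isoGroupEquiv Q).subgroupMap _).trans
    (MulEquiv.subgroupCongr (commutator_map_equiv (isoGroupEquiv Q)))

theorem card_omega [Finite F] [CharP F 2] {m K : ℕ} {Q₀ : (ι → F) → F}
    (Q : QuadraticForm F (ι → F)) (e : ⇑Q = Q₀) (hQ : (polarBilin Q).Nondegenerate)
    (hgen : reflGroup Q = ⊤) (hcard : Fintype.card ι = 2 * m)
    (hK : m ≤ K ∨ ∀ W : Submodule F (ι → F), (∀ w ∈ W, Q w = 0) → finrank F W < m) (hKm : m - 1 ≤ K)
    (u : Fin m → ι → F) (hu : ∀ i j, polar Q (u i) (u j) = 0) (hQu : ∀ i, Q (u i) = 1)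
    (huli : LinearIndependent F u) (w : Fin K → ι → F) (hw : ∀ i j, polar Q (w i) (w j) = 0)
    (hQw : ∀ i, Q (w i) = 0) (hwli : LinearIndependent F w) :
    Nat.card {C : ConjClasses ↥(Cfsg.Omega F Q₀) //
      ∃ g : ↥(Cfsg.Omega F Q₀), ConjClasses.mk g = C ∧ orderOf g = 2} =
      m / 2 + K / 2 + if 0 < m ∧ Even m ∧ m ≤ K then 1 else 0 := by
  subst e
  rw [card_classes_congr (omegaEquiv Q)]
  have hV : finrank F (ι → F) = 2 * m := by rw [finrank_fintype_fun_eq_card, hcard]
  have hsurj : ∀ p ∈ classSet m K, ∃ g : oGroup Q, orderOf g = 2 ∧ invO g = p := fun p hp => by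
    obtain ⟨g, h1, h2⟩ := exists_iso Q hQ u hu hQu huli w hw hQw hwli hp
    exact ⟨isoGroupEquiv Q g, (orderOf_iso Q g).trans h1, h2⟩
  have hiff : (m, true) ∈ evenSet m K ↔ 0 < m ∧ Even m ∧ m ≤ K := by
    simp [mem_evenSet, mem_classSet, even_iff_two_dvd]
    tauto
  split_ifs with h
  · exact card_comm_split hQ hgen hV hK hKm hsurj (hiff.2 h)
  · exact card_comm_nonsplit hQ hgen hV hK hKm hsurj (mt hiff.1 h)

end transfer

end CfsgLib.Dye
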