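/-
Centralisers in orthogonal groups of characteristic two from centralisers in symplectic groups:
the symplectic centraliser permutes the invariant quadratic forms with the given polar form.
-/
import Cfsg.Agent.Dye.Group
import Cfsg.Agent.Quad.ClassAction
import Cfsg.Agent.QuadStd.Split
import Cfsg.Agent.ParityRank.Matrix

set_option autoImplicit false
set_option linter.unusedSectionVars false

namespace CfsgLib.Dye

open Module QuadraticMap CfsgLib.Quad

variable {F V : Type*} [Field F] [CharP F 2] [AddCommGroup V] [Module F V] [FiniteDimensional F V]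
  {Q : QuadraticForm F V} {N : V →ₗ[F] V}

/-- The image of `a ↦ a² + a`. -/
def IsAS (x : F) : Prop := ∃ a, x = a * a + a

theorem isAS_add {x y : F} (hx : IsAS x) (hy : IsAS y) : IsAS (x + y) := by
  obtain ⟨a, rfl⟩ := hx
  obtain ⟨b, rfl⟩ := hy
  exact ⟨a + b, by linear_combination -(a * b) * CharTwo.two_eq_zero (R := F)⟩

theorem isAS_zero : IsAS (0 : F) := ⟨0, by simp⟩

theorem isAS_add_iff [Finite F] {x t : F} (ht : ¬ IsAS t) : IsAS (x + t) ↔ ¬ IsAS x := by
  refine ⟨fun h hx => ht ?_, fun hx => artin_schreier_add (fun a ha => hx ⟨a, ha⟩) fun a ha => ht ⟨a, ha⟩⟩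
  have := isAS_add h hx
  rwa [add_comm x t, add_assoc, CharTwo.add_self_eq_zero, add_zero] at this

theorem exists_not_isAS [Finite F] : ∃ t : F, ¬ IsAS t := by
  by_contra hc
  push Not at hc
  have hsurj : Function.Surjective fun a : F => a * a + a := fun x => (hc x).imp fun a ha => ha.symm
  exact zero_ne_one ((Finite.injective_iff_surjective.2 hsurj)
    (show (0 : F) * 0 + 0 = 1 * 1 + 1 by simp [CharTwo.add_self_eq_zero]))

/-- Isometries of the shifted form also preserve the polar form. -/
theorem polar_of_shift {w : V} {g : V ≃ₗ[F] V}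
    (hg : ∀ v, Q (g v) = Q v + polar Q w v * polar Q w v) (u v : V) :
    polar Q (g u) (g v) = polar Q u v := by
  simp only [polar, ← map_add, hg]
  have h := polar_add_right Q w u v
  simp only [polar] at h
  rw [h]
  linear_combination ((Q (w + u) - Q w - Q u) * (Q (w + v) - Q w - Q v)) * CharTwo.two_eq_zero (R := F)

/-- A transvection carrying `Q` to `Q + f(w, ·)²`. -/
theorem exists_twist {w : V} (h : IsAS (Q w)) :
    ∃ T : V ≃ₗ[F] V, (∀ v, T (T v) = v) ∧ ∀ v, Q (T v) = Q v + polar Q w v * polar Q w v := by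
  classical
  obtain ⟨a, ha⟩ := h
  obtain ⟨c, hc⟩ : ∃ c : F, c * c * Q w + c = 1 := by
    by_cases h0 : a = 0
    · exact ⟨1, by rw [ha, h0]; simp⟩
    · refine ⟨a⁻¹, ?_⟩
      rw [ha]; field_simp
      linear_combination CharTwo.two_eq_zero (R := F)
  let T : V →ₗ[F] V := LinearMap.id + (c • polarBilin Q w).smulRight w
  have hT : ∀ v, T v = v + (c * polar Q w v) • w := fun v => rfl
  have hinv : Function.Involutive T := fun v => by
    rw [hT, hT, polar_add_right, polar_smul_right, polar_self, two_nsmul, CharTwo.add_self_eq_zero,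
      smul_zero, add_zero, add_assoc, ← add_smul, CharTwo.add_self_eq_zero, zero_smul, add_zero]
  refine ⟨LinearEquiv.ofInvolutive T hinv, hinv, fun v => ?_⟩
  show Q (T v) = _
  rw [hT, CfsgLib.Forms.quad_add, CfsgLib.Forms.quad_smul, polar_smul_right, polar_comm Q v w,
    smul_eq_mul]
  linear_combination (polar Q w v * polar Q w v) * hc

/-- If `Q + f(w, ·)²` is isometric to `Q` then `Q w` is `a² + a` for some `a`. -/
theorem isAS_of_isometry [Finite F] (hQ : (polarBilin Q).Nondegenerate) {w : V} {g : V ≃ₗ[F] V}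
    (hg : ∀ v, Q (g v) = Q v + polar Q w v * polar Q w v) : IsAS (Q w) := by
  by_cases hw : w = 0
  · rw [hw, QuadraticMap.map_zero]; exact isAS_zero
  obtain ⟨y, hy⟩ := exists_polar_ne hQ hw
  set w' := (polar Q w y)⁻¹ • y with hw'
  have h1 : polar Q w w' = 1 := by rw [hw', polar_smul_right, smul_eq_mul, inv_mul_cancel₀ hy]
  have h1' : polar Q w' w = 1 := by rw [polar_comm, h1]
  clear_value w'
  clear hw'
  have hs : ∀ x, polar Q x x = 0 := fun x => polar_isAlt Q x
  set R : Submodule F V := LinearMap.ker (polarBilin Q w) ⊓ LinearMap.ker (polarBilin Q w') with hR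
  obtain ⟨h, hh, hhg⟩ := CfsgLib.Forms.quad_witt hQ R (g.toLinearMap ∘ₗ R.subtype)
    (g.injective.comp Subtype.val_injective) fun r => by
      show Q (g r) = _
      rw [hg, show polar Q w r = 0 from r.2.1, mul_zero, add_zero]
  set k := g.trans h.symm with hk
  have hkR : ∀ r ∈ R, k r = r := fun r hr => by
    rw [hk, LinearEquiv.trans_apply, LinearEquiv.symm_apply_eq]
    exact (hhg ⟨r, hr⟩).symm
  have hQk : ∀ x, Q (k x) = Q x + polar Q w x * polar Q w x := fun x => by
    rw [hk, LinearEquiv.trans_apply, ← hh, LinearEquiv.apply_symm_apply, hg]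
  have hkp := fun u v => polar_of_shift hQk u v
  have hplane : ∀ k : V ≃ₗ[F] V, (∀ r ∈ R, k r = r) → (∀ u v, polar Q (k u) (k v) = polar Q u v) →
      ∀ s t : F, ∃ s' t' : F, k (s • w + t • w') = s' • w + t' • w' := by
    intro k hkR hkp s t
    set x := k (s • w + t • w') with hx
    refine ⟨polar Q x w', polar Q x w, ?_⟩
    rw [← sub_eq_zero]
    refine hQ.1 _ fun z => ?_
    rw [polarBilin_apply_apply]
    set p := polar Q z w' • w + polar Q z w • w' with hp
    have hr : z - p ∈ R := by
      rw [hR, Submodule.mem_inf, LinearMap.mem_ker, LinearMap.mem_ker, polarBilin_apply_apply,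
        polarBilin_apply_apply, hp]
      simp only [polar_sub_right, polar_add_right, polar_smul_right, hs, h1, h1', smul_eq_mul,
        mul_zero, mul_one, zero_add, add_zero, polar_comm Q w z, polar_comm Q w' z, sub_self, and_self]
    have e : polar Q x (z - p) = polar Q (s • w + t • w') (z - p) := by
      conv_lhs => rw [← hkR _ hr, hx, hkp]
    obtain ⟨r1, r2⟩ : polar Q w (z - p) = 0 ∧ polar Q w' (z - p) = 0 := hr
    rw [polar_add_left, polar_smul_left, polar_smul_left, r1, r2, smul_zero, smul_zero, add_zero] at e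
    rw [polar_sub_right, sub_eq_zero] at e
    simp only [polar_sub_left, polar_add_left, polar_smul_left, smul_eq_mul, e, hp, polar_add_right,
      polar_smul_right, polar_comm Q w z, polar_comm Q w' z]
    ring
  by_cases hc : Q w = 0
  · rw [hc]; exact isAS_zero
  have hval : ∀ s t : F, Q (s • w + t • w') = Q w * (s * s) + s * t + Q w' * (t * t) ∧
      polar Q w (s • w + t • w') = t := by
    intro s t
    rw [CfsgLib.Forms.quad_add, CfsgLib.Forms.quad_smul, CfsgLib.Forms.quad_smul, polar_smul_left,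
      polar_smul_right, h1, polar_add_right, polar_smul_right, polar_smul_right, h1, hs]
    simp only [smul_eq_mul]
    constructor <;> ring
  have hcrit : ∀ d : F, (∃ s t : F, ¬ (s = 0 ∧ t = 0) ∧ Q w * (s * s) + s * t + d * (t * t) = 0) ↔
      IsAS (Q w * d) := by
    intro d
    constructor
    · rintro ⟨s, t, hne, h0⟩
      have ht : t ≠ 0 := by
        rintro rfl
        refine hne ⟨?_, rfl⟩
        simpa [hc] using h0
      refine ⟨Q w * s / t, ?_⟩
      field_simp
      linear_combination h0 - (t * s + Q w * s * s) * CharTwo.two_eq_zero (R := F)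
    · rintro ⟨a, ha⟩
      refine ⟨a / Q w, 1, fun h => one_ne_zero h.2, ?_⟩
      field_simp
      linear_combination ha + (a * a + a) * CharTwo.two_eq_zero (R := F)
  have hiso : IsAS (Q w * Q w') ↔ IsAS (Q w * (Q w' + 1)) := by
    rw [← hcrit, ← hcrit]
    constructor
    · rintro ⟨s, t, hne, h0⟩
      have hks : ∀ r ∈ R, k.symm r = r := fun r hr => by rw [LinearEquiv.symm_apply_eq, hkR r hr]
      obtain ⟨s', t', hst⟩ := hplane k.symm hks
        (fun u v => by rw [← hkp, k.apply_symm_apply, k.apply_symm_apply]) s t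
      refine ⟨s', t', fun h => hne ?_, ?_⟩
      · rw [h.1, h.2, zero_smul, zero_smul, add_zero, LinearEquiv.map_eq_zero_iff] at hst
        have e1 := congrArg (polar Q w) hst
        have e2 := congrArg (polar Q w') hst
        simp [polar_add_right, polar_smul_right, h1, h1', hs] at e1 e2
        exact ⟨e2, e1⟩
      · have := hQk (s' • w + t' • w')
        rw [← hst, k.apply_symm_apply, (hval s t).1, h0, hst, (hval s' t').1, (hval s' t').2] at this
        linear_combination -this
    · rintro ⟨s, t, hne, h0⟩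
      obtain ⟨s', t', hst⟩ := hplane k hkR hkp s t
      refine ⟨s', t', fun h => hne ?_, ?_⟩
      · rw [h.1, h.2, zero_smul, zero_smul, add_zero, LinearEquiv.map_eq_zero_iff] at hst
        have e1 := congrArg (polar Q w) hst
        have e2 := congrArg (polar Q w') hst
        simp [polar_add_right, polar_smul_right, h1, h1', hs] at e1 e2
        exact ⟨e2, e1⟩
      · have := hQk (s • w + t • w')
        rw [hst, (hval s' t').1, (hval s t).1, (hval s t).2] at this
        linear_combination this + h0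
  have hsum : Q w = Q w * Q w' + Q w * (Q w' + 1) := by
    linear_combination -(Q w * Q w') * CharTwo.two_eq_zero (R := F)
  by_cases hA : IsAS (Q w * Q w')
  · rw [hsum]; exact isAS_add hA (hiso.1 hA)
  · rw [hsum]; exact artin_schreier_add (fun a ha => hA ⟨a, ha⟩) fun a ha => hA (hiso.2 ⟨a, ha⟩)

/-- The vectors indexing the orbit of `Q` under the symplectic centraliser of `1 + N`. -/
def Sel (Q : QuadraticForm F V) (N : V →ₗ[F] V) : Type _ := {w : V // N w = 0 ∧ IsAS (Q w)}

/-- The symplectic centraliser. -/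
def CentB (B : LinearMap.BilinForm F V) (N : V →ₗ[F] V) : Type _ :=
  {g : V ≃ₗ[F] V // (∀ u v, B (g u) (g v) = B u v) ∧ ∀ x, g (N x) = N (g x)}

/-- The orthogonal centraliser. -/
def CentQ (Q : QuadraticForm F V) (N : V →ₗ[F] V) : Type _ :=
  {g : V ≃ₗ[F] V // (∀ u, Q (g u) = Q u) ∧ ∀ x, g (N x) = N (g x)}

theorem exists_cent_twist [Finite F] (hQ : (polarBilin Q).Nondegenerate) (hN : IsODev Q N) {w : V}
    (hNw : N w = 0) (hw : IsAS (Q w)) :
    ∃ g : V ≃ₗ[F] V, (∀ x, g (N x) = N (g x)) ∧ ∀ v, Q (g v) = Q v + polar Q w v * polar Q w v := by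
  obtain ⟨T, hTT, hT⟩ := exists_twist hw
  have hTp := fun u v => polar_of_shift hT u v
  set N' : V →ₗ[F] V := T.toLinearMap ∘ₗ N ∘ₗ T.toLinearMap with hN'
  have happ : ∀ x, N' x = T (N (T x)) := fun x => rfl
  have hsymm : ∀ x y, polar Q (N x) y = polar Q x (N y) := fun x y => by
    rw [polar_comm]; exact (hN.symm x y).symm
  have hwN : ∀ x, polar Q w (N x) = 0 := fun x => by rw [← hsymm, hNw, polar_zero_left]
  have hI : IsODev Q N' :=
    { sq := fun x => by rw [happ, happ, hTT, hN.sq, map_zero]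
      symm := fun x y => by
        simp only [polarBilin_apply_apply, happ]
        calc polar Q x (T (N (T y))) = polar Q (T (T x)) (T (N (T y))) := by rw [hTT]
          _ = polar Q (T (T y)) (T (N (T x))) := by rw [hTp, hTp]; exact hN.symm _ _
          _ = polar Q y (T (N (T x))) := by rw [hTT]
      quad := fun x => by
        rw [happ, hT, hwN, mul_zero, add_zero, hN.quad]
        calc polar Q (T x) (N (T x)) = polar Q (T (T x)) (T (N (T x))) := (hTp _ _).symm
          _ = _ := by rw [hTT] }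
  have hi : ∀ x, T (N x) = N' (T x) := fun x => by rw [happ, hTT]
  have hr := finrank_range_conj hi
  have ha := alt_conj (B := polarBilin Q) (fun u v => hTp u v) hi
  obtain ⟨h, hh, hhi⟩ := exists_intertwine_quad_of_invariants hQ hI hN hr.symm ha.symm
  refine ⟨T.trans h, fun x => ?_, fun v => ?_⟩
  · rw [LinearEquiv.trans_apply, LinearEquiv.trans_apply, hi, hhi]
  · rw [LinearEquiv.trans_apply, hh, hT]

theorem exists_sqrt_vec [Finite F] (hQ : (polarBilin Q).Nondegenerate) {g : V ≃ₗ[F] V}
    (hg : ∀ u v, polar Q (g u) (g v) = polar Q u v) :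
    ∃ w, ∀ v, Q (g v) = Q v + polar Q w v * polar Q w v := by
  haveI := Fintype.ofFinite F
  choose s hs using fun v => FiniteField.isSquare_of_char_two (ringChar.eq F 2) (Q (g v) + Q v)
  have hinj : ∀ {a b : F}, a * a = b * b → a = b := fun {a b} h => by
    have h' : (a + b) * (a + b) = 0 := by linear_combination h + (b * b + a * b) * CharTwo.two_eq_zero (R := F)
    exact CharTwo.add_eq_zero.1 (mul_self_eq_zero.1 h')
  let l : V →ₗ[F] F :=
    { toFun := s
      map_add' := fun u v => hinj (by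
        rw [← hs, map_add, CfsgLib.Forms.quad_add, CfsgLib.Forms.quad_add, hg]
        linear_combination hs u + hs v - (s u * s v - polar Q u v) * CharTwo.two_eq_zero (R := F))
      map_smul' := fun c v => hinj (by
        rw [← hs, map_smul, CfsgLib.Forms.quad_smul, CfsgLib.Forms.quad_smul, RingHom.id_apply, smul_eq_mul]
        linear_combination (c * c) * hs v) }
  obtain ⟨w, hw⟩ := (CfsgLib.Forms.polarForm Q).exists_h_eq (CfsgLib.Forms.polarForm_nondeg hQ) l
  refine ⟨w, fun v => ?_⟩
  have e : polar Q v w = s v := by rw [← CfsgLib.Forms.polarForm_h, hw]; rfl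
  rw [polar_comm, e, ← hs v]
  linear_combination -(Q v) * CharTwo.two_eq_zero (R := F)

/-- The symplectic centraliser is the orbit times the orthogonal centraliser. -/
theorem card_centB [Finite F] (hQ : (polarBilin Q).Nondegenerate) (hN : IsODev Q N) :
    Nat.card (CentB (polarBilin Q) N) = Nat.card (Sel Q N) * Nat.card (CentQ Q N) := by
  choose tw htw1 htw2 using fun w : Sel Q N => exists_cent_twist hQ hN w.2.1 w.2.2
  let f : Sel Q N × CentQ Q N → CentB (polarBilin Q) N := fun p =>
    ⟨(tw p.1).trans p.2.1, fun u v => polar_of_shift (w := p.1.1) (fun x => by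
      rw [LinearEquiv.trans_apply, p.2.2.1, htw2]) u v, fun x => by
      rw [LinearEquiv.trans_apply, LinearEquiv.trans_apply, htw1, p.2.2.2]⟩
  have hf : ∀ p v, Q ((f p).1 v) = Q v + polar Q p.1.1 v * polar Q p.1.1 v := fun p v => by
    show Q ((tw p.1).trans p.2.1 v) = _
    rw [LinearEquiv.trans_apply, p.2.2.1, htw2]
  have hbij : Function.Bijective f := by
    constructor
    · intro p p' h
      have hw : p.1 = p'.1 := Subtype.ext (sub_eq_zero.1 (hQ.1 _ fun v => by
        have e1 := hf p v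
        rw [h, hf p'] at e1
        have e2 : (polar Q p.1.1 v + polar Q p'.1.1 v) * (polar Q p.1.1 v + polar Q p'.1.1 v) = 0 := by
          linear_combination -e1 + (polar Q p'.1.1 v * polar Q p'.1.1 v + polar Q p.1.1 v * polar Q p'.1.1 v) * CharTwo.two_eq_zero (R := F)
        rw [polarBilin_apply_apply, polar_sub_left, CharTwo.sub_eq_add]
        exact mul_self_eq_zero.1 e2))
      refine Prod.ext hw (Subtype.ext (LinearEquiv.ext fun x => ?_))
      have e : (tw p.1).trans p.2.1 = (tw p'.1).trans p'.2.1 := congrArg Subtype.val h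
      have e' := LinearEquiv.congr_fun e ((tw p.1).symm x)
      rw [LinearEquiv.trans_apply, LinearEquiv.trans_apply, ← hw, LinearEquiv.apply_symm_apply] at e'
      exact e'
    · rintro ⟨g, hg, hgN⟩
      obtain ⟨w, hw⟩ := exists_sqrt_vec hQ (g := g) hg
      have hNw : N w = 0 := hQ.1 _ fun v => by
        rw [polarBilin_apply_apply, polar_comm]
        refine (hN.symm v w).trans ?_
        rw [polarBilin_apply_apply]
        have h1 := hw (N v)
        rw [hgN, hN.quad, hN.quad, show polar Q (g v) (N (g v)) = polar Q v (N v) by rw [← hgN]; exact hg _ _] at h1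
        exact mul_self_eq_zero.1 (by linear_combination -h1)
      let w' : Sel Q N := ⟨w, hNw, isAS_of_isometry hQ hw⟩
      refine ⟨(w', ⟨(tw w').symm.trans g, fun u => ?_, fun x => ?_⟩), Subtype.ext ?_⟩
      · rw [LinearEquiv.trans_apply, hw]
        conv_rhs => rw [← (tw w').apply_symm_apply u, htw2]
      · rw [LinearEquiv.trans_apply, LinearEquiv.trans_apply, ← hgN]
        refine congrArg g ?_
        rw [LinearEquiv.symm_apply_eq, htw1, LinearEquiv.apply_symm_apply]
      · refine LinearEquiv.ext fun x => ?_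
        show g ((tw w').symm (tw w' x)) = g x
        rw [LinearEquiv.symm_apply_apply]
  rw [← Nat.card_prod]
  exact (Nat.card_congr (Equiv.ofBijective f hbij)).symm

theorem card_sel_nonalt [Finite F] (hQ : (polarBilin Q).Nondegenerate) (hN : IsODev Q N)
    (hna : ¬ Alt (polarBilin Q) N) :
    2 * Nat.card (Sel Q N) = Nat.card F ^ finrank F (LinearMap.ker N) := by
  classical
  haveI := Fintype.ofFinite F
  haveI : Finite V := Module.finite_of_finite F
  obtain ⟨v, hv⟩ := not_forall.1 hna
  have hz0 : Q (N v) ≠ 0 := by rwa [hN.quad]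
  obtain ⟨t, ht⟩ := exists_not_isAS (F := F)
  obtain ⟨r, hr⟩ := FiniteField.isSquare_of_char_two (ringChar.eq F 2) (t / Q (N v))
  set z := r • N v with hz
  have hQz : Q z = t := by
    rw [hz, CfsgLib.Forms.quad_smul, ← hr, div_mul_cancel₀ _ hz0]
  have hNz : N z = 0 := by rw [hz, map_smul, hN.sq, smul_zero]
  have hshift : ∀ w, N w = 0 → N (w + z) = 0 ∧ Q (w + z) = Q w + t := by
    intro w hw
    refine ⟨by rw [map_add, hw, hNz, add_zero], ?_⟩
    rw [CfsgLib.Forms.quad_add, hQz, hz, polar_smul_right,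
      show polar Q w (N v) = polar Q v (N w) from hN.symm w v, hw, polar_zero_right, smul_zero, add_zero]
  have hzz : ∀ w : V, w + z + z = w := fun w => by rw [add_assoc, add_self_vec F, add_zero]
  have e : {w : V // N w = 0 ∧ IsAS (Q w)} ≃ {w : V // N w = 0 ∧ ¬ IsAS (Q w)} :=
    { toFun := fun w => ⟨w.1 + z, (hshift _ w.2.1).1, by
        rw [(hshift _ w.2.1).2, isAS_add_iff ht]; exact not_not.2 w.2.2⟩
      invFun := fun w => ⟨w.1 + z, (hshift _ w.2.1).1, by
        rw [(hshift _ w.2.1).2, isAS_add_iff ht]; exact w.2.2⟩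
      left_inv := fun w => Subtype.ext (hzz _)
      right_inv := fun w => Subtype.ext (hzz _) }
  rw [← Module.natCard_eq_pow_finrank, two_mul]
  conv_lhs => arg 2; rw [Sel, Nat.card_congr e]
  rw [Sel, ← Nat.card_sum]
  exact Nat.card_congr
    { toFun := fun w => Sum.elim (fun w => ⟨w.1, LinearMap.mem_ker.2 w.2.1⟩) (fun w => ⟨w.1, LinearMap.mem_ker.2 w.2.1⟩) w
      invFun := fun w => if h : IsAS (Q w.1) then Sum.inl ⟨w.1, LinearMap.mem_ker.1 w.2, h⟩
        else Sum.inr ⟨w.1, LinearMap.mem_ker.1 w.2, h⟩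
      left_inv := by rintro (w | w) <;> simp [w.2.2]
      right_inv := fun w => by
        dsimp only
        split_ifs <;> rfl }

theorem card_plus_isAS [Finite F] (k : ℕ) :
    2 * Nat.card {v : Fin k ⊕ Fin k → F // IsAS (plusQ (F := F) k v)} =
      Nat.card F ^ k * (Nat.card F ^ k + 1) := by
  classical
  haveI := Fintype.ofFinite F
  set q := Nat.card F with hq
  set V' := Fin k ⊕ Fin k → F
  set N1 := Nat.card {v : V' // plusQ (F := F) k v = 1}
  set Z := Nat.card {v : V' // plusQ (F := F) k v = 0}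
  have hlev : ∀ t : F, Nat.card {v : V' // plusQ (F := F) k v = t} = if t = 0 then Z else N1 := by
    intro t
    split_ifs with h0
    · subst h0; rfl
    obtain ⟨r, hr⟩ := FiniteField.isSquare_of_char_two (ringChar.eq F 2) t
    have hr0 : r ≠ 0 := fun h => h0 (by rw [hr, h, mul_zero])
    refine (Nat.card_congr (Equiv.subtypeEquiv (LinearEquiv.smulOfUnit (Units.mk0 r hr0)).toEquiv fun v => ?_)).symm
    show _ ↔ plusQ (F := F) k (r • v) = t
    rw [CfsgLib.Forms.quad_smul, ← hr]
    exact ⟨fun h => by rw [h, mul_one], fun h => mul_left_cancel₀ h0 (by rw [h, mul_one])⟩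
  have hfib : ∀ P : F → Prop, Nat.card {v : V' // P (plusQ (F := F) k v)} =
      ∑ t : {t // P t}, if (t : F) = 0 then Z else N1 := by
    intro P
    rw [Nat.card_congr (Equiv.sigmaSubtypeFiberEquivSubtype (fun v : V' => plusQ (F := F) k v)
      (p := fun v => P (plusQ (F := F) k v)) (q := P) fun v => Iff.rfl).symm, Nat.card_sigma]
    exact Finset.sum_congr rfl fun t _ => hlev t
  obtain ⟨t₀, ht₀⟩ := exists_not_isAS (F := F)
  have hne : (t₀ : F) ≠ 0 := fun h => ht₀ (h ▸ isAS_zero)
  have hco : Fintype.card {t : F // IsAS t} = Fintype.card {t : F // ¬ IsAS t} :=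
    Fintype.card_congr
      { toFun := fun t => ⟨t.1 + t₀, by rw [isAS_add_iff ht₀]; exact not_not.2 t.2⟩
        invFun := fun t => ⟨t.1 + t₀, by rw [isAS_add_iff ht₀]; exact t.2⟩
        left_inv := fun t => Subtype.ext (by simp [add_assoc, CharTwo.add_self_eq_zero])
        right_inv := fun t => Subtype.ext (by simp [add_assoc, CharTwo.add_self_eq_zero]) }
  have htot : Nat.card {v : V' // ¬ IsAS (plusQ (F := F) k v)} +
      Nat.card {v : V' // IsAS (plusQ (F := F) k v)} = q ^ (2 * k) := by
    rw [add_comm, ← Nat.card_sum, Nat.card_congr (Equiv.sumCompl _), Nat.card_fun, ← hq, Nat.card_sum,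
      Nat.card_fin, two_mul]
  have hnon : Nat.card {v : V' // ¬ IsAS (plusQ (F := F) k v)} = Fintype.card {t : F // ¬ IsAS t} * N1 := by
    rw [hfib (fun t => ¬ IsAS t), Finset.sum_congr rfl fun (t : {t : F // ¬ IsAS t}) _ =>
      if_neg fun h : (t : F) = 0 => t.2 (by rw [h]; exact isAS_zero), Finset.sum_const, smul_eq_mul]
    simp [Finset.card_univ]
  have has : Nat.card {v : V' // IsAS (plusQ (F := F) k v)} + N1 = Z + Fintype.card {t : F // IsAS t} * N1 := by
    rw [hfib IsAS, ← Finset.sum_erase_add _ _ (Finset.mem_univ (⟨0, isAS_zero⟩ : {t : F // IsAS t})),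
      if_pos rfl, Finset.sum_congr rfl fun (t : {t : F // IsAS t}) ht =>
      if_neg fun h : (t : F) = 0 => (Finset.mem_erase.1 ht).1 (Subtype.ext h),
      Finset.sum_const, smul_eq_mul, Finset.card_erase_of_mem (Finset.mem_univ _), Finset.card_univ]
    have hpos : 0 < Fintype.card {t : F // IsAS t} := Fintype.card_pos_iff.2 ⟨⟨0, isAS_zero⟩⟩
    obtain ⟨j, hj⟩ := Nat.exists_eq_add_of_le' hpos
    rw [hj, Nat.add_sub_cancel]; ring
  have hq2 : q = 2 * Fintype.card {t : F // IsAS t} := by
    rw [hq, Nat.card_eq_fintype_card, ← Fintype.card_congr (Equiv.sumCompl IsAS), Fintype.card_sum,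
      ← hco, two_mul]
  have hz : (q : ℤ) * Z = (q : ℤ) ^ (2 * k) + (q : ℤ) ^ (k + 1) - (q : ℤ) ^ k := zeros_plus hq.symm k
  rw [← hco] at hnon
  rw [hnon] at htot
  set A := Nat.card {v : V' // IsAS (plusQ (F := F) k v)}
  set a := Fintype.card {t : F // IsAS t}
  have hqa : (q : ℤ) = 2 * a := by exact_mod_cast hq2
  have h1 : (a : ℤ) * N1 + A = (q : ℤ) ^ (2 * k) := by exact_mod_cast htot
  have h2 : (A : ℤ) + N1 = Z + a * N1 := by exact_mod_cast has
  have hq1 : (q : ℤ) ≠ 1 := by
    have : 1 < q := Finite.one_lt_card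
    omega
  have h3 : (q : ℤ) * N1 = (q : ℤ) ^ (2 * k) - (q : ℤ) ^ k := by
    refine mul_left_cancel₀ (sub_ne_zero.2 hq1) ?_
    linear_combination (q : ℤ) * h1 - (q : ℤ) * h2 - hz + (N1 : ℤ) * q * hqa
  have h4 : (2 : ℤ) * A = (q : ℤ) ^ k * ((q : ℤ) ^ k + 1) := by
    linear_combination 2 * h1 - h3 + (N1 : ℤ) * hqa
  exact_mod_cast h4

theorem card_sel_alt [Finite F] (hQ : (polarBilin Q).Nondegenerate) (hN : IsODev Q N)
    (ha : Alt (polarBilin Q) N) {m s : ℕ} (hV : finrank F V = 2 * m)
    (hs : finrank F (LinearMap.range N) = s) {W₀ : Submodule F V} (hW₀ : ∀ w ∈ W₀, Q w = 0)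
    (hW₀m : finrank F W₀ = m) :
    2 * Nat.card (Sel Q N) = Nat.card F ^ s * (Nat.card F ^ (m - s) * (Nat.card F ^ (m - s) + 1)) := by
  classical
  haveI : Finite V := Module.finite_of_finite F
  set I := LinearMap.range N
  set K := LinearMap.ker N with hK
  have hIK : I ≤ K := by rintro _ ⟨x, rfl⟩; exact hN.sq x
  have hI0 : ∀ x ∈ I, Q x = 0 := by rintro _ ⟨x, rfl⟩; rw [hN.quad]; exact ha x
  have hIp : ∀ x ∈ I, ∀ y ∈ K, polar Q y x = 0 := by
    rintro _ ⟨x, rfl⟩ y hy
    rw [show polar Q y (N x) = polar Q x (N y) from hN.symm y x, LinearMap.mem_ker.1 hy, polar_zero_right]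
  have hKd : finrank F K + s = 2 * m := by
    rw [← hs, ← hV, add_comm]; exact LinearMap.finrank_range_add_finrank_ker N
  have hsm : s ≤ m := by have := Submodule.finrank_mono hIK; omega
  obtain ⟨R₀, hR₀⟩ := exists_isCompl (I.comap K.subtype)
  set R := R₀.map K.subtype with hR
  have hRK : R ≤ K := Submodule.map_subtype_le K R₀
  have hdis : ∀ x ∈ I, x ∈ R → x = 0 := by
    rintro x hx ⟨y, hy, rfl⟩
    exact (congrArg K.subtype (Submodule.disjoint_def.1 hR₀.disjoint y hx hy)).trans (map_zero _)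
  have hsum : ∀ x ∈ K, ∃ i ∈ I, ∃ r ∈ R, x = i + r := by
    intro x hx
    obtain ⟨i, hi, r, hr, e⟩ := Submodule.mem_sup.1
      ((hR₀.sup_eq_top.ge (Submodule.mem_top (x := (⟨x, hx⟩ : K)))))
    exact ⟨i, hi, r, ⟨r, hr, rfl⟩, (congrArg Subtype.val e).symm⟩
  have hRd : finrank F R = 2 * (m - s) := by
    have h1 := Submodule.finrank_add_eq_of_isCompl hR₀
    rw [(Submodule.comapSubtypeEquivOfLe hIK).finrank_eq, hs] at h1
    rw [hR, (Submodule.equivMapOfInjective K.subtype K.injective_subtype R₀).finrank_eq.symm]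
    omega
  set QR := Q.comp R.subtype
  have hQR : (polarBilin QR).Nondegenerate := by
    have hl : (polarBilin QR).SeparatingLeft := by
      intro r hr
      have h0 : ∀ y ∈ K, polar Q (r : V) y = 0 := by
        intro y hy
        obtain ⟨i, hi, r', hr', rfl⟩ := hsum y hy
        rw [polar_add_right, hIp i hi r (hRK r.2), zero_add]
        exact hr ⟨r', hr'⟩
      have hperp : perpS Q K = I := by
        refine (Submodule.eq_of_le_of_finrank_eq (show I ≤ perpS Q K from fun x hx h hh => hIp x hx h hh) ?_).symm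
        have := finrank_perpS hQ K
        omega
      have : (r : V) ∈ perpS Q K := fun y hy => by rw [polar_comm]; exact h0 y hy
      rw [hperp] at this
      exact Subtype.ext (hdis _ this r.2)
    refine ⟨hl, fun r hr => hl r fun y => ?_⟩
    rw [← hr y]; exact polar_comm _ _ _
  obtain ⟨φ, hφ⟩ : ∃ φ : R ≃ₗ[F] (Fin (m - s) ⊕ Fin (m - s) → F), ∀ v, QR v = plusQ (m - s) (φ v) := by
    rcases CfsgLib.QuadStd.classify_even hQR hRd with h | ⟨ζ, φ, hk, hζ, hφ⟩
    · exact h
    exfalso
    obtain ⟨W, hWm, hWI, hW⟩ : ∃ W : Submodule F V, finrank F W = m ∧ I ≤ W ∧ ∀ w ∈ W, Q w = 0 := by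
      obtain ⟨f, hf⟩ := finrank_le_iff_exists_linearMap.1 (show finrank F I ≤ finrank F W₀ by omega)
      obtain ⟨g, hg, hgf⟩ := CfsgLib.Forms.quad_witt hQ I (W₀.subtype ∘ₗ f)
        (W₀.injective_subtype.comp hf) fun a => by rw [hI0 a a.2]; exact hW₀ _ (f a).2
      refine ⟨W₀.comap g.toLinearMap, ?_, fun x hx => ?_, fun w hw => ?_⟩
      · rw [Submodule.comap_equiv_eq_map_symm, LinearEquiv.finrank_map_eq, hW₀m]
      · show g x ∈ W₀
        rw [show g x = _ from hgf ⟨x, hx⟩]; exact (f _).2
      · rw [← hg]; exact hW₀ _ hw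
    have hWK : W ≤ K := by
      intro w hw
      refine hQ.1 _ fun y => ?_
      rw [polarBilin_apply_apply, polar_comm, show polar Q y (N w) = polar Q w (N y) from hN.symm y w]
      have hy : N y ∈ W := hWI ⟨y, rfl⟩
      rw [polar, hW _ (add_mem hw hy), hW w hw, hW _ hy]; ring
    have h1 := Submodule.finrank_sup_add_finrank_inf_eq W R
    have h2 := Submodule.finrank_mono (sup_le hWK hRK)
    have h3 := CfsgLib.ParityRank.minus_no_half (CfsgLib.QuadStd.plane_aniso hζ) (m := m - s - 1)
      (((W ⊓ R).comap R.subtype).map φ.toLinearMap) (by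
        rintro _ ⟨x, hx, rfl⟩
        rw [LinearEquiv.coe_coe, ← hφ]
        exact hW _ hx.1)
    rw [LinearEquiv.finrank_map_eq, (Submodule.comapSubtypeEquivOfLe inf_le_right).finrank_eq] at h3
    omega
  have e : Sel Q N ≃ I × {r : R // IsAS (QR r)} := by
    refine (Equiv.ofBijective (fun p : I × {r : R // IsAS (QR r)} =>
      (⟨(p.1 : V) + (p.2.1 : V), ?_, ?_⟩ : Sel Q N)) ⟨fun p p' h => ?_, fun w => ?_⟩).symm
    · rw [map_add, LinearMap.mem_ker.1 (hIK p.1.2), LinearMap.mem_ker.1 (hRK p.2.1.2), add_zero]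
    · rw [CfsgLib.Forms.quad_add, hI0 _ p.1.2, polar_comm, hIp _ p.1.2 _ (hRK p.2.1.2), zero_add, add_zero]
      exact p.2.2
    · have h' : (p.1 : V) + (p.2.1 : V) = (p'.1 : V) + (p'.2.1 : V) := congrArg Subtype.val h
      have h0 : (p.1 : V) - p'.1 = 0 := hdis _ (sub_mem p.1.2 p'.1.2) (by
        rw [show (p.1 : V) - p'.1 = (p'.2.1 : V) - p.2.1 by rw [sub_eq_sub_iff_add_eq_add, h', add_comm]]
        exact sub_mem p'.2.1.2 p.2.1.2)
      rw [sub_eq_zero] at h0
      rw [h0, add_right_inj] at h'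
      exact Prod.ext (Subtype.ext h0) (Subtype.ext (Subtype.ext h'))
    · obtain ⟨i, hi, r, hr, hw⟩ := hsum w.1 (LinearMap.mem_ker.2 w.2.1)
      have h : IsAS (Q r) := by
        have := w.2.2
        rwa [hw, CfsgLib.Forms.quad_add, hI0 _ hi, polar_comm, hIp _ hi _ (hRK hr), zero_add, add_zero] at this
      exact ⟨(⟨i, hi⟩, ⟨⟨r, hr⟩, h⟩), Subtype.ext hw.symm⟩
  rw [Nat.card_congr e, Nat.card_prod, Module.natCard_eq_pow_finrank (K := F) (V := I), hs,
    Nat.card_congr (Equiv.subtypeEquiv φ.toEquiv (q := fun v => IsAS (plusQ (F := F) (m - s) v)) fun r => by rw [hφ]; rfl),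
    mul_left_comm, card_plus_isAS]

end CfsgLib.Dye
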