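/-
Centralisers of involutions in the commutator subgroup of an orthogonal group, characteristic two.
-/
import Cfsg.Agent.Dye.OrbitCent
import Cfsg.Agent.Dye.Omega
import Cfsg.Agent.Dye.CentCount
import Cfsg.Agent.Dye.OmegaCount
import Cfsg.Agent.QuadStd.Std

set_option autoImplicit false
set_option linter.unusedSectionVars false

namespace CfsgLib.Dye

open Module QuadraticMap Matrix CfsgLib.Quad

variable {F : Type*} [Field F] [Finite F] [CharP F 2]

section omega

variable {V : Type*} [AddCommGroup V] [Module F V] [FiniteDimensional F V] {Q : QuadraticForm F V}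
  (hQ : (polarBilin Q).Nondegenerate) (hgen : reflGroup Q = ⊤) {t : oGroup Q} (ht : t * t = 1)

include hQ hgen in
theorem card_index_two {g : oGroup Q} (hg : g * t = t * g) (hgn : g ∉ commutator (oGroup Q)) :
    2 * Nat.card {c : oGroup Q // c ∈ commutator (oGroup Q) ∧ c * t = t * c} =
      Nat.card {c : oGroup Q // c * t = t * c} := by
  haveI : Finite V := Module.finite_of_finite F
  haveI : Finite (oGroup Q) := Finite.of_injective (fun g => (g.1 : V → V))
    fun a b h => Subtype.ext (LinearEquiv.ext (congrFun h))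
  classical
  have hcl : ∀ c d : oGroup Q, c * t = t * c → d * t = t * d → c * d * t = t * (c * d) :=
    fun c d hc hd => by rw [mul_assoc, hd, ← mul_assoc, hc, mul_assoc]
  have hginv : g⁻¹ * t = t * g⁻¹ := (Commute.inv_left hg).eq
  have e : {c : oGroup Q // c ∈ commutator (oGroup Q) ∧ c * t = t * c} ≃
      {c : oGroup Q // c ∉ commutator (oGroup Q) ∧ c * t = t * c} :=
    { toFun := fun c => ⟨g * c.1, fun h => hgn (by simpa using mul_mem h (inv_mem c.2.1)),
        hcl _ _ hg c.2.2⟩
      invFun := fun c => ⟨g⁻¹ * c.1,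
        mul_mem_comm hQ hgen (fun h => hgn (by simpa using inv_mem h)) c.2.1, hcl _ _ hginv c.2.2⟩
      left_inv := fun c => Subtype.ext (inv_mul_cancel_left _ _)
      right_inv := fun c => Subtype.ext (mul_inv_cancel_left _ _) }
  rw [two_mul]
  conv_lhs => arg 2; rw [Nat.card_congr e]
  rw [← Nat.card_sum]
  exact Nat.card_congr
    { toFun := fun c => Sum.elim (fun c => ⟨c.1, c.2.2⟩) (fun c => ⟨c.1, c.2.2⟩) c
      invFun := fun c => if h : c.1 ∈ commutator (oGroup Q) then Sum.inl ⟨c.1, h, c.2⟩ else Sum.inr ⟨c.1, h, c.2⟩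
      left_inv := by rintro (c | c) <;> simp [c.2.1]
      right_inv := fun c => by
        dsimp only
        split_ifs <;> rfl }

variable {m : ℕ} (hV : finrank F V = 2 * m)

include hQ hgen hV ht in
theorem card_index_two_of_not_split (h : ¬ Even (invO t).1 ∨ invO t ≠ (m, true)) :
    2 * Nat.card {c : oGroup Q // c ∈ commutator (oGroup Q) ∧ c * t = t * c} =
      Nat.card {c : oGroup Q // c * t = t * c} := by
  by_cases he : Even (invO t).1
  swap
  · exact card_index_two hQ hgen rfl fun hm => he ((mem_comm_iff hQ hgen t).1 hm)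
  have hinv := h.resolve_left (not_not.2 he)
  have hd := isODev_oGroup ht
  obtain ⟨d, hdk, hQd⟩ : ∃ d ∈ LinearMap.ker (devL t.1), Q d ≠ 0 := by
    by_contra hc
    push Not at hc
    have hle := finrank_le_of_singular hQ hc
    have h1 := LinearMap.finrank_range_add_finrank_ker (devL t.1)
    have h2 := two_mul_le hQ hd.toIsDev
    refine hinv (Prod.ext ?_ (invB_snd_true.2 fun v => ?_))
    · show finrank F (LinearMap.range (devL t.1)) = m
      omega
    · rw [polarBilin_apply_apply, ← hd.quad]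
      exact hc _ (LinearMap.mem_ker.2 (hd.sq v))
  have hfix : t.1 d = d := by
    rw [apply_eq_add t.1, LinearMap.mem_ker.1 hdk, add_zero]
  refine card_index_two hQ hgen ?_ (refl_not_mem hQ hgen hQd)
  have h' := refl_conj t d
  rw [hfix, mul_inv_eq_iff_eq_mul] at h'
  exact h'.symm

include hQ hgen hV ht in
theorem card_of_split (hm : Even m) (hinv : invO t = (m, true)) :
    Nat.card {c : oGroup Q // c ∈ commutator (oGroup Q) ∧ c * t = t * c} =
      Nat.card {c : oGroup Q // c * t = t * c} :=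
  Nat.card_congr (Equiv.subtypeEquivRight fun c =>
    ⟨fun h => h.2, fun h => ⟨centraliser_le hQ hgen hV hm ht hinv (by rw [h, mul_inv_cancel_right]), h⟩⟩)

theorem card_centQ (t : oGroup Q) :
    Nat.card {c : oGroup Q // c * t = t * c} = Nat.card (CentQ Q (devL t.1)) := by
  refine Nat.card_congr
    { toFun := fun c => ⟨c.1.1, c.1.2, (intertwine_iff c.1.1 t.1 t.1).2
        (congrArg Subtype.val (show c.1 * t * c.1⁻¹ = t by rw [c.2, mul_inv_cancel_right]))⟩
      invFun := fun g => ⟨⟨g.1, g.2.1⟩, mul_inv_eq_iff_eq_mul.1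
        (Subtype.ext ((intertwine_iff g.1 t.1 t.1).1 g.2.2) : (⟨g.1, g.2.1⟩ : oGroup Q) * t * (⟨g.1, g.2.1⟩ : oGroup Q)⁻¹ = t)⟩
      left_inv := fun c => rfl
      right_inv := fun g => rfl }

end omega

section plus

variable {m : ℕ}

theorem sB_eq_polar : (sB : LinearMap.BilinForm F (Fin m ⊕ Fin m → F)) = polarBilin (plusQ m) :=
  LinearMap.ext₂ fun u v => by
    rw [sB_apply, polarBilin_apply_apply, plusQ_coe, CfsgLib.QuadStd.plus_polar,
      CfsgLib.Symp.form_apply, Finset.sum_sub_distrib]
    simp [CharTwo.sub_eq_add, Finset.sum_add_distrib, mul_comm, add_comm]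

theorem exists_sp_of_orth (t : oGroup (plusQ (F := F) m)) (ht : t * t = 1) :
    ∃ t' : ↥(Matrix.symplecticGroup (Fin m) F), spHom t' = t.1 ∧ t' * t' = 1 := by
  obtain ⟨t', h⟩ := exists_spHom_eq t.1 fun u v => by
    rw [sB_eq_polar]; exact polar_oGroup t u v
  exact ⟨t', h, spHom_injective (by rw [map_mul, map_one, h]; exact congrArg Subtype.val ht)⟩

theorem card_centB_eq (t' : ↥(Matrix.symplecticGroup (Fin m) F)) :
    Nat.card ↥(Subgroup.centralizer ({t'} : Set ↥(Matrix.symplecticGroup (Fin m) F))) =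
      Nat.card (CentB (polarBilin (plusQ (F := F) m)) (devL (spHom t'))) := by
  let f : ↥(Subgroup.centralizer ({t'} : Set ↥(Matrix.symplecticGroup (Fin m) F))) →
      CentB (polarBilin (plusQ (F := F) m)) (devL (spHom t')) := fun c =>
    ⟨spHom c.1, fun u v => by rw [← sB_eq_polar]; exact spHom_preserves c.1 u v,
      (intertwine_iff (spHom c.1) (spHom t') (spHom t')).2 (by
        rw [← map_mul, ← map_inv, ← map_mul]
        refine congrArg spHom ?_
        rw [← Subgroup.mem_centralizer_iff.1 c.2 t' rfl, mul_inv_cancel_right])⟩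
  refine Nat.card_congr (Equiv.ofBijective f ⟨fun c d h => Subtype.ext (spHom_injective (congrArg Subtype.val h)), fun g => ?_⟩)
  obtain ⟨c, hc⟩ := exists_spHom_eq g.1 fun u v => by rw [sB_eq_polar]; exact g.2.1 u v
  refine ⟨⟨c, Subgroup.mem_centralizer_singleton_iff.2 ?_⟩, Subtype.ext hc⟩
  have h := (intertwine_iff g.1 (spHom t') (spHom t')).1 g.2.2
  rw [← hc, ← map_mul, ← map_inv, ← map_mul] at h
  exact mul_inv_eq_iff_eq_mul.1 (spHom_injective h)

/-- The master formula: the symplectic centraliser is the orbit times the orthogonal one. -/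
theorem card_master (t : oGroup (plusQ (F := F) m)) (ht : t * t = 1) :
    ∃ t' : ↥(Matrix.symplecticGroup (Fin m) F), t' * t' = 1 ∧ spHom t' = t.1 ∧
      Nat.card ↥(Subgroup.centralizer ({t'} : Set ↥(Matrix.symplecticGroup (Fin m) F))) =
        Nat.card (Sel (plusQ (F := F) m) (devL t.1)) *
          Nat.card {c : oGroup (plusQ (F := F) m) // c * t = t * c} := by
  obtain ⟨t', h, h'⟩ := exists_sp_of_orth t ht
  refine ⟨t', h', h, ?_⟩
  rw [card_centB_eq, h, card_centQ t, card_centB (plusQ_nondeg m) (isODev_oGroup ht)]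

theorem card_omega_cent (x : ↥(Cfsg.isometryGroup F (⇑(plusQ (F := F) m)))) :
    Nat.card {g : ↥(Cfsg.Omega F (⇑(plusQ (F := F) m))) //
        (g : ↥(Cfsg.isometryGroup F (⇑(plusQ (F := F) m)))) * x = x * g} =
      Nat.card {c : oGroup (plusQ (F := F) m) // c ∈ commutator (oGroup (plusQ (F := F) m)) ∧
        c * isoGroupEquiv _ x = isoGroupEquiv _ x * c} :=
  Nat.card_congr ((Equiv.subtypeSubtypeEquivSubtypeInter _ (fun g => g * x = x * g)).trans
    (Equiv.subtypeEquiv (isoGroupEquiv (plusQ (F := F) m)).toEquiv fun g => by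
      simp only [MulEquiv.toEquiv_eq_coe, MulEquiv.coe_toEquiv]
      refine and_congr ?_ ?_
      · rw [← commutator_map_equiv (isoGroupEquiv (plusQ (F := F) m))]
        exact (Subgroup.mem_map_equiv.trans (by rw [MulEquiv.symm_apply_apply])).symm
      · rw [← map_mul, ← map_mul, EmbeddingLike.apply_eq_iff_eq]))

theorem reflGroup_plus (h : Nat.card F ≠ 2 ∨ m ≠ 2) : reflGroup (plusQ (F := F) m) = ⊤ := by
  haveI := Fintype.ofFinite F
  classical
  refine reflGroup_eq_top (plusQ_nondeg m) ?_
  rcases h with h | h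
  · left
    by_contra hc
    push Not at hc
    refine h ?_
    rw [Nat.card_eq_fintype_card, ← Finset.card_univ,
      show (Finset.univ : Finset F) = {0, 1} from (Finset.eq_univ_of_forall fun t => by
        by_cases ht : t = 0
        · simp [ht]
        · simp [hc t ht]).symm, Finset.card_pair zero_ne_one]
  · right; simp; omega

theorem alt_iff_iso {Q : QuadraticForm F (Fin m ⊕ Fin m → F)} (x : ↥(Cfsg.isometryGroup F ⇑Q))
    (hx : x * x = 1) : Alt (polarBilin Q) (devL (isoGroupEquiv Q x).1) ↔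
      ∀ v, Q ((((x : GL (Fin m ⊕ Fin m) F) : Matrix (Fin m ⊕ Fin m) (Fin m ⊕ Fin m) F) - 1).mulVec v) = 0 := by
  have hd := isODev_oGroup (g := isoGroupEquiv Q x) (by rw [← map_mul, hx, map_one])
  refine forall_congr' fun v => ?_
  rw [polarBilin_apply_apply, ← hd.quad v, Matrix.sub_mulVec, Matrix.one_mulVec, devL_apply,
    isoGroupEquiv_apply]

theorem rank_plus (x : ↥(Cfsg.isometryGroup F (⇑(plusQ (F := F) m)))) :
    (((x : GL (Fin m ⊕ Fin m) F) : Matrix (Fin m ⊕ Fin m) (Fin m ⊕ Fin m) F) - 1).rank =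
      finrank F (LinearMap.range (devL (isoGroupEquiv _ x).1)) := rank_iso _ x

end plus

end CfsgLib.Dye

namespace CfsgLib.Dye

open Module QuadraticMap Matrix CfsgLib.Quad

variable {F : Type*} [Field F] [Finite F] [CharP F 2] {m : ℕ}

/-- Centraliser in `Ω` against centraliser in `Sp`: non-alternating involutions. -/
theorem omega_cent_nonalt (h : Nat.card F ≠ 2 ∨ m ≠ 2)
    (x : ↥(Cfsg.isometryGroup F (⇑(plusQ (F := F) m)))) (hx : x * x = 1)
    (hna : ¬ Alt (polarBilin (plusQ (F := F) m)) (devL (isoGroupEquiv _ x).1)) :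
    ∃ t' : ↥(Matrix.symplecticGroup (Fin m) F), t' * t' = 1 ∧ spHom t' = (isoGroupEquiv _ x).1 ∧
      Nat.card ↥(Subgroup.centralizer ({t'} : Set ↥(Matrix.symplecticGroup (Fin m) F))) =
        Nat.card F ^ (2 * m - finrank F (LinearMap.range (devL (isoGroupEquiv _ x).1))) *
          Nat.card {g : ↥(Cfsg.Omega F (⇑(plusQ (F := F) m))) //
            (g : ↥(Cfsg.isometryGroup F (⇑(plusQ (F := F) m)))) * x = x * g} := by
  set t := isoGroupEquiv (plusQ (F := F) m) x
  have ht : t * t = 1 := by rw [← map_mul, hx, map_one]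
  have hV : finrank F (Fin m ⊕ Fin m → F) = 2 * m := by simp; omega
  obtain ⟨t', h1, h2, h3⟩ := card_master t ht
  refine ⟨t', h1, h2, ?_⟩
  have hsel := card_sel_nonalt (plusQ_nondeg m) (isODev_oGroup ht) hna
  have hidx := card_index_two_of_not_split (plusQ_nondeg m) (reflGroup_plus h) ht hV
    (Or.inr fun e => hna (invB_snd_true.1 (congrArg Prod.snd e)))
  rw [card_omega_cent, h3, ← hidx, mul_left_comm, ← mul_assoc, hsel]
  have := LinearMap.finrank_range_add_finrank_ker (devL t.1)
  congr 2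
  omega

/-- Centraliser in `Ω` against centraliser in `Sp`: alternating involutions. -/
theorem omega_cent_alt (h : Nat.card F ≠ 2 ∨ m ≠ 2)
    (x : ↥(Cfsg.isometryGroup F (⇑(plusQ (F := F) m)))) (hx : x * x = 1) (hx1 : x ≠ 1)
    (ha : Alt (polarBilin (plusQ (F := F) m)) (devL (isoGroupEquiv _ x).1)) :
    ∃ t' : ↥(Matrix.symplecticGroup (Fin m) F), t' * t' = 1 ∧ spHom t' = (isoGroupEquiv _ x).1 ∧
      ∀ s, s = finrank F (LinearMap.range (devL (isoGroupEquiv _ x).1)) →
      Nat.card ↥(Subgroup.centralizer ({t'} : Set ↥(Matrix.symplecticGroup (Fin m) F))) =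
        (if s = m then Nat.card F ^ s else Nat.card F ^ s * (Nat.card F ^ (m - s) * (Nat.card F ^ (m - s) + 1))) *
          Nat.card {g : ↥(Cfsg.Omega F (⇑(plusQ (F := F) m))) //
            (g : ↥(Cfsg.isometryGroup F (⇑(plusQ (F := F) m)))) * x = x * g} := by
  set t := isoGroupEquiv (plusQ (F := F) m) x with htdef
  have ht : t * t = 1 := by rw [← map_mul, hx, map_one]
  have hV : finrank F (Fin m ⊕ Fin m → F) = 2 * m := by simp; omega
  obtain ⟨t', h1, h2, h3⟩ := card_master t ht
  refine ⟨t', h1, h2, fun s hs => ?_⟩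
  have hsel := card_sel_alt (plusQ_nondeg m) (isODev_oGroup ht) ha hV hs.symm
    (CfsgLib.Linear.MaxSing.isMax_inl F m).2 (CfsgLib.Linear.MaxSing.isMax_inl F m).1
  split_ifs with hsm
  · subst hsm
    have hev : Even s := hs ▸ even_of_alt (plusQ_nondeg s) (isODev_oGroup ht).toIsDev ha
    have hinv : invO t = (s, true) := Prod.ext hs.symm (invB_snd_true.2 ha)
    have hidx := card_of_split (plusQ_nondeg s) (reflGroup_plus h) ht hV hev hinv
    rw [Nat.sub_self, pow_zero, one_mul, mul_comm _ (1 + 1)] at hsel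
    rw [card_omega_cent, h3, hidx, show Nat.card (Sel (plusQ (F := F) s) (devL t.1)) = Nat.card F ^ s by omega]
  · have hidx := card_index_two_of_not_split (plusQ_nondeg m) (reflGroup_plus h) ht hV
      (Or.inr fun e => hsm (hs.trans (congrArg Prod.fst e)))
    rw [card_omega_cent, h3, ← hidx, mul_left_comm, ← mul_assoc, hsel]

end CfsgLib.Dye
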